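import Groth.Agent.Lib.Euler.TensorSupport
import Groth.Agent.Lib.Euler.Section
import Groth.Agent.Lib.Euler.Slope2
import Groth.Agent.Lib.Euler.Divisor
import Groth.Agent.Lib.Euler.Torsion
import Groth.Agent.Lib.FinAff13.Poles
import Groth.Agent.Lib.GrpdQuot.GenInvariant
import Groth.Agent.Lib.OX.Tensor
import Groth.Agent.Lib.OX.LocFreeTensor
import Groth.Agent.Lib.FMod7.Algz
import Groth.Agent.Lib.FormalExist7.Stalk

/-!
# Stalks at generic points of reduced schemes and first cohomology on curves
-/

set_option autoImplicit false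
set_option backward.isDefEq.respectTransparency false
set_option linter.all false

universe u

open CategoryTheory CategoryTheory.Limits AlgebraicGeometry TopologicalSpace Opposite

noncomputable section

namespace GrothLib.SubCurve16

open GrothLib.QCoh (stalkLin)
open GrothLib.Euler (tF)

variable {X : Scheme.{u}}

/-- The stalks of an invertible module are free of rank one. -/
theorem nonempty_stalkEquiv {M : X.Modules} (hM : PicF.IsInvertible M) (x : X) :
    Nonempty (M.presheaf.stalk x ≃ₗ[X.presheaf.stalk x] X.presheaf.stalk x) := by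
  obtain ⟨D, e, hx, he⟩ := FinCov.exists_frame_nhd_of_rank (Euler.isFinLocFreeOfRank_one' hM) x
  obtain ⟨b⟩ := Euler.stalk_basis_of_frame he hx
  exact ⟨b.equivFun.trans (LinearEquiv.funUnique (Fin 1) _ _)⟩

/-- Tensoring with an invertible module does not change the stalks. -/
theorem nonempty_stalk_tF {M L : X.Modules} (hL : PicF.IsInvertible L) (x : X) :
    Nonempty (((tF L).obj M).presheaf.stalk x ≃ₗ[X.presheaf.stalk x] M.presheaf.stalk x) := by
  obtain ⟨f⟩ := Euler.nonempty_stalk_equiv_pi (M := M) (Euler.isFinLocFreeOfRank_one' hL) x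
  exact ⟨f.trans (LinearEquiv.funUnique (Fin 1) _ _)⟩

theorem support_tF {M L : X.Modules} (hL : PicF.IsInvertible L) :
    CohB1.support ((tF L).obj M) = CohB1.support M := by
  ext x
  obtain ⟨f⟩ := nonempty_stalk_tF (M := M) hL x
  exact not_congr ⟨fun h => f.symm.toEquiv.subsingleton, fun h => f.toEquiv.subsingleton⟩

theorem stalkLin_eq_zero_of_factor {A B C : X.Modules} (f : A ⟶ B) (g : B ⟶ C) {x : X}
    (h : x ∉ CohB1.support B) (v : A.presheaf.stalk x) : stalkLin (f ≫ g) x v = 0 := by
  haveI := QCoh.stalk_subsingleton_of_notMem h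
  rw [QCoh.stalkLin_comp, Subsingleton.elim (stalkLin f x v) 0, map_zero]

/-- A map vanishing on a stalk has image without that point in its support. -/
theorem notMem_support_image {A B : X.Modules} (f : A ⟶ B) {x : X}
    (h : ∀ v, stalkLin f x v = 0) : x ∉ CohB1.support (Abelian.image f) := by
  refine not_not.2 (subsingleton_of_forall_eq 0 fun e => ?_)
  obtain ⟨v, rfl⟩ := QCoh.stalkLin_surjective (Abelian.factorThruImage f) x e
  refine QCoh.stalkLin_injective (Abelian.image.ι f) x ?_
  rw [← QCoh.stalkLin_comp, Abelian.image.fac, h, map_zero]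

theorem stalkLin_tF_eq_zero {A B L : X.Modules} (hL : PicF.IsInvertible L) (f : A ⟶ B) {x : X}
    (h : ∀ v, stalkLin f x v = 0) (w : ((tF L).obj A).presheaf.stalk x) :
    stalkLin ((tF L).map f) x w = 0 := by
  have h1 : x ∉ CohB1.support ((tF L).obj (Abelian.image f)) := by
    rw [support_tF hL]; exact notMem_support_image f h
  have := stalkLin_eq_zero_of_factor ((tF L).map (Abelian.factorThruImage f))
    ((tF L).map (Abelian.image.ι f)) h1 w
  rwa [← Functor.map_comp, Abelian.image.fac] at this

theorem stalkLin_surjective_of_cokernel {A B : X.Modules} (f : A ⟶ B) {x : X}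
    (h : x ∉ CohB1.support (cokernel f)) : Function.Surjective (stalkLin f x) := fun y => by
  have hex := (OX.exact_iff (ShortComplex.mk f (cokernel.π f) (cokernel.condition f))).1
    (ShortComplex.exact_of_g_is_cokernel _ (cokernelIsCokernel f)) x
  rw [ShortComplex.moduleCat_exact_iff] at hex
  exact hex y (@Subsingleton.elim _ (QCoh.stalk_subsingleton_of_notMem h) _ _)

theorem stalkLin_tF_surjective {A B L : X.Modules} (hL : PicF.IsInvertible L) (f : A ⟶ B) {x : X}
    (h : Function.Surjective (stalkLin f x)) : Function.Surjective (stalkLin ((tF L).map f) x) := by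
  haveI : PreservesColimitsOfSize.{0, 0} (tF L) := preservesColimitsOfSize_shrink.{0, u, 0, u} _
  refine stalkLin_surjective_of_cokernel _ ?_
  rw [← QCoh.support_eq_of_iso (PreservesCokernel.iso (tF L) f), support_tF hL]
  exact QCoh.notMem_support_cokernel_of_surjective f h

/-- Linear maps between lines over a field. -/
theorem surjective_of_ne_zero {R : Type*} [CommRing R] (hR : IsField R) {A B : Type*} [AddCommGroup A] [Module R A]
    [AddCommGroup B] [Module R B] (e : B ≃ₗ[R] R) (f : A →ₗ[R] B) {a : A} (ha : f a ≠ 0) :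
    Function.Surjective f := by
  intro b
  obtain ⟨c, hc⟩ := hR.mul_inv_cancel (fun h => ha (e.injective (h.trans (map_zero e).symm)))
  refine ⟨(e b * c) • a, e.injective ?_⟩
  rw [map_smul, map_smul, smul_eq_mul, mul_assoc, mul_comm c, hc, mul_one]

theorem injective_of_surjective {R : Type*} [CommRing R] (hR : IsField R) {A B : Type*} [AddCommGroup A] [Module R A]
    [AddCommGroup B] [Module R B] [Nontrivial B] (e : A ≃ₗ[R] R) (f : A →ₗ[R] B) (hf : Function.Surjective f) :
    Function.Injective f := by
  refine (injective_iff_map_eq_zero f).2 fun a ha => ?_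
  by_contra h
  obtain ⟨c, hc⟩ := hR.mul_inv_cancel (fun h' => h (e.injective (h'.trans (map_zero e).symm)))
  obtain ⟨b, hb⟩ := exists_ne (0 : B)
  obtain ⟨a', rfl⟩ := hf b
  have : a' = (e a' * c) • a := e.injective (by
    rw [map_smul, smul_eq_mul, mul_assoc, mul_comm c, hc, mul_one])
  exact hb (by rw [this, map_smul, ha, smul_zero])

theorem isField_stalk [IsReduced X] {η : X} (hη : η ∈ genericPoints (X : Type u)) :
    IsField (X.presheaf.stalk η) :=
  GrpdQuot.isField_stalk_of_generic η (FinAff13.mem_genericPoints_iff.1 hη)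

/-- The generic points in the closure of a set of generic points. -/
theorem mem_of_mem_closure [NoetherianSpace X] {S : Set X} (hS : S ⊆ genericPoints (X : Type u)) {η : X}
    (hη : η ∈ genericPoints (X : Type u)) (h : η ∈ closure S) : η ∈ S := by
  have hfin : S.Finite := (genericPoints.finite NoetherianSpace.finite_irreducibleComponents).subset hS
  rw [← Set.biUnion_of_singleton S, hfin.closure_biUnion] at h
  obtain ⟨η', hη', h'⟩ := Set.mem_iUnion₂.1 h
  have := FinAff13.mem_genericPoints_iff.1 hη η' (specializes_iff_mem_closure.2 h')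
  rwa [this] at hη'

section coh

variable (k : Type u) [Field k] [X.Over (Spec (CommRingCat.of k))] [IsProper (X ↘ Spec (CommRingCat.of k))]
  (hd : topologicalKrullDim X ≤ 1)

include k hd in
theorem finite_of_notMem_genericPoints {C : Set X} (hC : IsClosed C)
    (h : ∀ η ∈ genericPoints (X : Type u), η ∉ C) : C.Finite ∧ ∀ x ∈ C, IsClosed ({x} : Set X) := by
  have := Euler.isNoetherian_of_proper (X := X) k
  have hcl : ∀ x ∈ C, IsClosed ({x} : Set X) := fun x hx =>
    Euler.isClosed_singleton_of_notMem_genericPoints hd fun hg => h x hg hx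
  exact ⟨Euler.finite_of_closed_points hC hcl, hcl⟩

include k hd in
/-- Modules living off the generic points have no first cohomology. -/
theorem subsingleton_H1_of_generic {M : X.Modules} (hM : Coh.IsCoh M)
    (h : ∀ η ∈ genericPoints (X : Type u), η ∉ CohB1.support M) : Subsingleton (Coh.HH X M 1) := by
  obtain ⟨hfin, hcl⟩ := finite_of_notMem_genericPoints k hd (QCoh.isClosed_support_of_isCoh hM) h
  exact Euler.subsingleton_HH_of_finite_support M hfin hcl 1 le_rfl

include k hd in
/-- Epimorphisms are surjective on first cohomology. -/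
theorem surjective_H1_of_epi {M N : X.Modules} (f : M ⟶ N) [Epi f] (hM : Coh.IsCoh M) (hN : Coh.IsCoh N) :
    Function.Surjective (Cohom.hhMap k f 1) := by
  have := Euler.isNoetherian_of_proper (X := X) k
  let S := ShortComplex.mk (kernel.ι f) f (kernel.condition f)
  have hS : S.ShortExact := { exact := ShortComplex.exact_of_f_is_kernel _ (kernelIsKernel f) }
  intro y
  have hc := QCoh.isCoh_kernel f hM hN
  haveI : S.X₁.IsQuasicoherent := hc.1
  haveI : Subsingleton (Coh.HH X S.X₁ 2) := Euler.subsingleton_HH_of_two_le k hd S.X₁ 2 le_rfl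
  exact (Cohom.exact₃ (A := k) hS 1 y).1 (Subsingleton.elim _ _)

include k hd in
/-- A map is surjective on first cohomology when its cokernel has none. -/
theorem surjective_H1_of_cokernel {M N : X.Modules} (f : M ⟶ N) (hM : Coh.IsCoh M) (hN : Coh.IsCoh N)
    (h : Subsingleton (Coh.HH X (cokernel f) 1)) : Function.Surjective (Cohom.hhMap k f 1) := by
  have := Euler.isNoetherian_of_proper (X := X) k
  intro y
  haveI : Subsingleton (Coh.HH X (ShortComplex.mk (Abelian.image.ι f) (cokernel.π f) (kernel.condition _)).X₃ 1) := h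
  obtain ⟨z, hz⟩ := (Cohom.exact₂ (A := k)
    (show (ShortComplex.mk (Abelian.image.ι f) (cokernel.π f) (kernel.condition (cokernel.π f))).ShortExact from
      { exact := ShortComplex.exact_of_f_is_kernel _ (kernelIsKernel (cokernel.π f)) }) 1 y).1 (Subsingleton.elim _ _)
  obtain ⟨w, hw⟩ := surjective_H1_of_epi k hd (Abelian.factorThruImage f) hM (FMod7.isCoh_image hM hN f) z
  refine ⟨w, ?_⟩
  rw [← hz, ← hw, ← Euler.hhMap_comp, Abelian.image.fac]

include k hd in
theorem subsingleton_H1_of_epi {M N : X.Modules} (f : M ⟶ N) [Epi f] (hM : Coh.IsCoh M) (hN : Coh.IsCoh N)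
    (h : Subsingleton (Coh.HH X M 1)) : Subsingleton (Coh.HH X N 1) :=
  (surjective_H1_of_epi k hd f hM hN).subsingleton

include k hd in
/-- A map which is onto at all generic points is surjective on first cohomology. -/
theorem surjective_H1_of_generic {M N : X.Modules} (f : M ⟶ N) (hM : Coh.IsCoh M) (hN : Coh.IsCoh N)
    (h : ∀ η ∈ genericPoints (X : Type u), η ∈ CohB1.support N → Function.Surjective (stalkLin f η)) :
    Function.Surjective (Cohom.hhMap k f 1) := by
  refine surjective_H1_of_cokernel k hd f hM hN (subsingleton_H1_of_generic k hd (QCoh.isCoh_cokernel f hM hN)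
    fun η hη hs => ?_)
  exact QCoh.notMem_support_cokernel_of_surjective f (h η hη (QCoh.support_subset_of_epi (cokernel.π f) hs)) hs

include k hd in
/-- The sequence of two epimorphisms: `H¹(N)` is killed by `f` and `g`. -/
theorem subsingleton_H1_of_two_step {N G T C : X.Modules} (i : N ⟶ G) (p : G ⟶ T) [Epi p] (c : G ⟶ C) [Epi c]
    (w : i ≫ p = 0) (hex : (ShortComplex.mk i p w).Exact)
    (hN : Coh.IsCoh N) (hT : Coh.IsCoh T) (hC : Coh.IsCoh C) (h1 : Subsingleton (Coh.HH X T 1))
    (hgen : ∀ η ∈ genericPoints (X : Type u), ∀ v, stalkLin (i ≫ c) η v = 0) :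
    Subsingleton (Coh.HH X C 1) := by
  have := Euler.isNoetherian_of_proper (X := X) k
  have hj := FMod7.isCoh_image hN hC (i ≫ c)
  have hI : Subsingleton (Coh.HH X (Abelian.image (i ≫ c)) 1) :=
    subsingleton_H1_of_generic k hd hj fun η hη => notMem_support_image _ (hgen η hη)
  let φ : T ⟶ cokernel (i ≫ c) := hex.desc (c ≫ cokernel.π (i ≫ c))
    (by dsimp; rw [← Category.assoc, cokernel.condition])
  haveI : Epi φ := epi_of_epi_fac (hex.g_desc (c ≫ cokernel.π (i ≫ c)) (by dsimp; rw [← Category.assoc, cokernel.condition]))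
  have hQ : Subsingleton (Coh.HH X (cokernel (i ≫ c)) 1) :=
    subsingleton_H1_of_epi k hd φ hT (QCoh.isCoh_cokernel _ hN hC) h1
  haveI : Subsingleton (Coh.HH X (ShortComplex.mk (Abelian.image.ι (i ≫ c)) (cokernel.π (i ≫ c))
    (kernel.condition _)).X₁ 1) := hI
  haveI : Subsingleton (Coh.HH X (ShortComplex.mk (Abelian.image.ι (i ≫ c)) (cokernel.π (i ≫ c))
    (kernel.condition _)).X₃ 1) := hQ
  exact Euler.subsingleton_of_exact (Cohom.exact₂ (A := k)
    (show (ShortComplex.mk (Abelian.image.ι (i ≫ c)) (cokernel.π (i ≫ c)) (kernel.condition _)).ShortExact from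
      { exact := ShortComplex.exact_of_f_is_kernel _ (kernelIsKernel (cokernel.π (i ≫ c))) }) 1)

end coh

end GrothLib.SubCurve16
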