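import Groth.Agent.Lib.SubCurve16.Base
import Groth.Agent.Lib.UnifVanish7.Spanned

/-!
# Line bundles of large degree on all subcurves are globally generated
-/

set_option autoImplicit false
set_option backward.isDefEq.respectTransparency false
set_option linter.all false
set_option maxHeartbeats 2000000

universe u

open CategoryTheory CategoryTheory.Limits AlgebraicGeometry TopologicalSpace Opposite

noncomputable section

namespace GrothLib.SubCurve16

open GrothLib.QCoh (stalkLin)
open GrothLib.Euler (tF smulMod)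

variable {X : Scheme.{u}}

theorem mono_toSubscheme_of_dense [IsReduced X] {I : X.IdealSheafData} (h : (I.support : Set X) = Set.univ) :
    Mono (ClSub.toSubscheme I) := by
  refine QCoh.mono_of_app_injective _ fun U a b hab => ?_
  refine sub_eq_zero.1 ((basicOpen_eq_bot_iff (show Γ(X, U) from a - b)).1 ?_)
  by_contra hne
  obtain ⟨x, hx⟩ := (TopologicalSpace.Opens.ne_bot_iff_nonempty _).1 hne
  obtain ⟨y, rfl⟩ := (I.range_subschemeι.trans h).ge (Set.mem_univ x)
  have h0 : I.subschemeι.app U (show Γ(X, U) from a - b) = 0 :=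
    (map_sub ((ClSub.toSubscheme I).app U).hom a b).trans (sub_eq_zero.2 hab)
  have h1 : y ∈ I.subschemeι ⁻¹ᵁ X.basicOpen (show Γ(X, U) from a - b) := hx
  rw [Scheme.preimage_basicOpen, h0, Scheme.basicOpen_zero] at h1
  exact h1

/-- The structure sheaf of a reduced point is killed by the maximal ideal. -/
theorem smul_quot_point_eq_zero {I : X.IdealSheafData} [IsReduced I.subscheme] {x : X}
    (h : (I.support : Set X) = {x}) {c : X.presheaf.stalk x} (hc : ¬ IsUnit c)
    (v : (ClSub.quotMod I).presheaf.stalk x) : c • v = 0 := by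
  obtain ⟨y, rfl⟩ := (I.range_subschemeι.trans h).ge (Set.mem_singleton x)
  have hgen : y ∈ genericPoints (I.subscheme : Type u) := FinAff13.mem_genericPoints_iff.2 fun z _ =>
    (Scheme.Hom.isClosedEmbedding I.subschemeι).injective
      ((I.range_subschemeι.trans h).le (Set.mem_range_self z))
  have hc0 : I.subschemeι.stalkMap y c = 0 := by
    by_contra hne
    obtain ⟨d, hd⟩ := (isField_stalk hgen).mul_inv_cancel hne
    exact hc (isUnit_of_map_unit (I.subschemeι.stalkMap y).hom c (.of_mul_eq_one d hd))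
  refine (QCoh.pushStalkHom_bijective I.subschemeι y (Coh.structureModule I.subscheme)
    (Scheme.Hom.isClosedEmbedding I.subschemeι).isInducing).1 ?_
  refine Eq.trans ?_ (map_zero _).symm
  refine ((QCoh.pushStalkHom I.subschemeι y (Coh.structureModule I.subscheme)).hom.map_smul c v).trans ?_
  erw [ModuleCat.restrictScalars.smul_def]
  rw [hc0, zero_smul]

variable (k : Type u) [Field k] [X.Over (Spec (CommRingCat.of k))] [IsProper (X ↘ Spec (CommRingCat.of k))]
  [IsReduced X] [ConnectedSpace X] (hdim : topologicalKrullDim X = 1) {L : X.Modules} (hL : PicF.IsInvertible L)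
  (hdeg : ∀ J : X.IdealSheafData, IsReduced J.subscheme → ConnectedSpace J.subscheme → topologicalKrullDim J.subscheme = 1 →
    2 * (@Curv2.genus k _ J.subscheme ⟨J.subschemeι ≫ (X ↘ (Spec (CommRingCat.of k)))⟩ : ℤ) ≤
      @Curv2.deg k _ J.subscheme ⟨J.subschemeι ≫ (X ↘ (Spec (CommRingCat.of k)))⟩
        ((Scheme.Modules.pullback J.subschemeι).obj L) 1)

include k hdim hL hdeg in
/-- Some section generates at each closed point. -/
theorem exists_generating_section {x : X} (hxcl : IsClosed ({x} : Set X)) {V : X.Opens} (hxV : x ∈ V)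
    {e : Γ(L, V)} (he : InvExt.IsGen L V e) :
    ∃ (s : Γ(L, ⊤)) (c : Γ(X, V)), x ∈ X.basicOpen c ∧
      L.presheaf.map (homOfLE (le_top : V ≤ ⊤)).op s = c • e := by
  have := Euler.isNoetherian_of_proper (X := X) k
  by_contra hnone
  let Z : X.IdealSheafData := Scheme.IdealSheafData.vanishingIdeal ⟨{x}, hxcl⟩
  haveI : IsReduced Z.subscheme := RedSub.isReduced_subscheme_vanishingIdeal _
  have hZs : (Z.support : Set X) = {x} := rfl
  have hsup : ∀ T : Set X, x ∈ closure T → Z ⊔ JJ T = Z := fun T hT =>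
    sup_eq_left.2 (Scheme.IdealSheafData.vanishingIdeal_antimono (Set.singleton_subset_iff.2 hT))
  have hxg : x ∉ genericPoints (X : Type u) := fun h => not_isClosed_generic hdim h hxcl
  refine not_noSection k hdim hL hdeg hZs.le hsup (hZs.ge rfl) hxcl hxg fun z => ?_
  let G := genericPoints (X : Type u)
  have hxG : x ∈ closure G := by rw [genericPoints.closure]; trivial
  haveI := Euler.epi_toSubscheme (JJ G)
  haveI := mono_toSubscheme_of_dense (I := JJ G) (by rw [support_JJ, genericPoints.closure])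
  haveI : IsIso (ClSub.toSubscheme (JJ G)) := isIso_of_mono_of_epi _
  let i : L ≅ PP L G := (OX.tensorUnitLeftIso L).symm ≪≫ (tF L).mapIso (asIso (ClSub.toSubscheme (JJ G)))
  let Φ : L ⟶ QQ Z L G := i.hom ≫ qq Z L G
  obtain ⟨z₀, rfl⟩ := (Euler.hhEquiv (A := k) i 0).surjective z
  show Cohom.hhMap k (qq Z L G) 0 (Cohom.hhMap k i.hom 0 z₀) = 0
  rw [← Euler.hhMap_comp]
  apply (ProjCoh.H0top _).injective
  rw [map_zero, Cohom.hhMap_apply]
  refine (ProjCoh.H0top_map _ z₀).trans ?_
  show Φ.app ⊤ (ProjCoh.H0top L z₀) = 0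
  set s := ProjCoh.H0top L z₀
  refine QCoh.section_eq_zero_of_germ _ _ fun y hy => ?_
  by_cases hyx : y = x
  swap
  · refine @Subsingleton.elim _ (QCoh.stalk_subsingleton_of_notMem fun h => hyx ?_) _ _
    rw [support_tF hL] at h
    have h2 := Snapper.support_quotMod _ h
    rw [Scheme.IdealSheafData.support_sup] at h2
    exact hZs.le h2.1
  subst hyx
  obtain ⟨c, hc⟩ := he.exists_smul_eq le_rfl (L.presheaf.map (homOfLE (le_top : V ≤ ⊤)).op s)
  rw [InvExt.mres_self] at hc
  have hnu : ¬ IsUnit (X.presheaf.germ V y hxV c) := fun hu =>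
    hnone ⟨s, c, (Scheme.mem_basicOpen _ _ _ hxV).2 hu, hc⟩
  have hg : L.presheaf.germ ⊤ y trivial s = X.presheaf.germ V y hxV c • L.presheaf.germ V y hxV e := by
    rw [← TopCat.Presheaf.germ_res_apply L.presheaf (homOfLE (le_top : V ≤ ⊤)) y hxV s, hc, WeakAss.germ_smul]
  rw [← QCoh.stalkLin_germ Φ (U := ⊤) hy s]
  erw [hg]
  rw [map_smul]
  obtain ⟨f⟩ := nonempty_stalk_tF (M := ClSub.quotMod (Z ⊔ JJ G)) hL y
  refine f.injective ?_
  rw [map_smul, map_zero]
  haveI : IsReduced (Z ⊔ JJ G).subscheme := by rw [hsup G hxG]; infer_instance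
  exact smul_quot_point_eq_zero (by rw [hsup G hxG]; exact hZs) hnu _

include k hdim hL hdeg in
/-- **Global generation.** -/
theorem isGloballyGenerated : Curv2.IsGloballyGenerated L := by
  have := Euler.isNoetherian_of_proper (X := X) k
  refine UnifVanish7.StalkSpanned.isGloballyGenerated fun y => eq_top_iff.2 fun v _ => ?_
  obtain ⟨x, hxy, hxcl⟩ := (isClosed_closure (s := ({y} : Set X))).exists_closed_singleton
    ⟨y, subset_closure rfl⟩
  obtain ⟨V, e, hxV, he⟩ := InvExt.exists_gen_nhd hL x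
  obtain ⟨s, c, hxc, hc⟩ := exists_generating_section k hdim hL hdeg hxcl hxV he
  have hyc : y ∈ X.basicOpen c := (specializes_iff_mem_closure.2 hxy).mem_open (X.basicOpen c).2 hxc
  have hyV : y ∈ V := X.basicOpen_le c hyc
  obtain ⟨U, hyU, m, rfl⟩ := TopCat.Presheaf.exists_germ_eq L.presheaf v
  obtain ⟨a, ha⟩ := he.exists_smul_eq (inf_le_left : V ⊓ U ≤ V)
    (L.presheaf.map (homOfLE (inf_le_right : V ⊓ U ≤ U)).op m)
  obtain ⟨u, hu⟩ := (Scheme.mem_basicOpen _ _ _ hyV).1 hyc
  have hs : L.presheaf.germ ⊤ y trivial s = X.presheaf.germ V y hyV c • L.presheaf.germ V y hyV e := by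
    rw [← TopCat.Presheaf.germ_res_apply L.presheaf (homOfLE (le_top : V ≤ ⊤)) y hyV s, hc, WeakAss.germ_smul]
  have hm : L.presheaf.germ U y hyU m =
      X.presheaf.germ (V ⊓ U) y ⟨hyV, hyU⟩ a • L.presheaf.germ V y hyV e := by
    rw [← TopCat.Presheaf.germ_res_apply L.presheaf (homOfLE (inf_le_right : V ⊓ U ≤ U)) y ⟨hyV, hyU⟩ m, ha,
      WeakAss.germ_smul]
    exact congrArg _ (TopCat.Presheaf.germ_res_apply L.presheaf (homOfLE (inf_le_left : V ⊓ U ≤ V)) y ⟨hyV, hyU⟩ e)
  rw [hm]
  refine Submodule.smul_mem _ _ ?_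
  have h1 : L.presheaf.germ V y hyV e = (↑u⁻¹ : X.presheaf.stalk y) • L.presheaf.germ ⊤ y trivial s := by
    rw [hs, ← hu, smul_smul, Units.inv_mul, one_smul]
  rw [h1]
  exact Submodule.smul_mem _ _ (Submodule.subset_span ⟨s, rfl⟩)

end GrothLib.SubCurve16
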