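import Groth.Agent.Lib.SubCurve16.Conn
import Groth.Agent.Lib.CurveH0CM.Basic
import Groth.Agent.Lib.Euler.Support

/-!
# Existence of subcurves of small degree
-/

set_option autoImplicit false
set_option backward.isDefEq.respectTransparency false
set_option linter.all false
set_option maxHeartbeats 1000000

universe u

open CategoryTheory CategoryTheory.Limits AlgebraicGeometry TopologicalSpace Opposite

noncomputable section

namespace GrothLib.SubCurve16

open GrothLib.QCoh (stalkLin)
open GrothLib.Euler (tF smulMod)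

variable {X : Scheme.{u}}

/-- Generic points of connected one-dimensional schemes are not closed. -/
theorem not_isClosed_generic [NoetherianSpace X] [ConnectedSpace X] (hdim : topologicalKrullDim X = 1) {η : X}
    (hη : η ∈ genericPoints (X : Type u)) : ¬ IsClosed ({η} : Set X) := by
  intro hcl
  have hcompl : ({η} : Set X)ᶜ = closure (genericPoints (X : Type u) \ {η}) := by
    refine Set.Subset.antisymm (fun y hy => ?_) fun y hy he => ?_
    · have h : y ∈ closure (genericPoints (X : Type u)) := by rw [genericPoints.closure]; trivial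
      rw [← Set.diff_union_of_subset (Set.singleton_subset_iff.2 hη), closure_union, hcl.closure_eq] at h
      exact h.resolve_right hy
    · rw [Set.mem_singleton_iff] at he
      subst he
      exact (mem_of_mem_closure Set.diff_subset hη hy).2 rfl
  have hopen : IsOpen ({η} : Set X) := isClosed_compl_iff.1 (hcompl ▸ isClosed_closure)
  rcases isClopen_iff.1 ⟨hcl, hopen⟩ with h | h
  · exact Set.singleton_ne_empty η h
  · obtain ⟨y, hy⟩ := CurveH0CM.exists_ne_of_dim hdim η
    exact hy (h.ge (Set.mem_univ y))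

theorem dim_JJ [NoetherianSpace X] [ConnectedSpace X] (hdim : topologicalKrullDim X = 1) {S : Set X}
    (hS : S ⊆ genericPoints (X : Type u)) (hne : S.Nonempty) :
    topologicalKrullDim (JJ S).subscheme = 1 := by
  have hemb := Scheme.Hom.isClosedEmbedding (JJ S).subschemeι
  refine le_antisymm (hemb.isInducing.topologicalKrullDim_le.trans hdim.le) ?_
  have h0 : ¬ topologicalKrullDim (JJ S).subscheme ≤ 0 := by
    intro h
    obtain ⟨η, hη⟩ := hne
    obtain ⟨y, rfl⟩ := (((JJ S).range_subschemeι).trans (support_JJ S)).symm ▸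
      (subset_closure hη : η ∈ closure S)
    have hy : IsClosed ({y} : Set (JJ S).subscheme) :=
      Euler.isClosed_singleton_of_dim_le_zero isClosed_univ
        ((IsHomeomorph.topologicalKrullDim_eq _ (Homeomorph.Set.univ (JJ S).subscheme).isHomeomorph).le.trans h)
        (Set.mem_univ y)
    exact not_isClosed_generic hdim (hS hη) (by simpa using hemb.isClosedMap {y} hy)
  revert h0
  generalize topologicalKrullDim (JJ S).subscheme = d
  intro h0
  induction d with
  | bot => exact absurd bot_le h0
  | coe n =>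
    have hn : n ≠ 0 := fun h => h0 (by rw [h]; exact le_rfl)
    exact WithBot.coe_le_coe.2 (Order.one_le_iff_pos.2 (pos_iff_ne_zero.2 hn))

variable (Z : X.IdealSheafData) {L : X.Modules} (hL : PicF.IsInvertible L)
  (k : Type u) [Field k] [X.Over (Spec (CommRingCat.of k))] [IsProper (X ↘ Spec (CommRingCat.of k))]

include hL k in
theorem nonempty_of_nontrivial {S : Set X} (h : Nontrivial (Coh.HH X (GG Z L S) 1)) : S.Nonempty := by
  by_contra h0
  rw [Set.not_nonempty_iff_eq_empty] at h0
  have hsupp : CohB1.support (GG Z L S) = ∅ := by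
    rw [support_tF hL, Set.eq_empty_iff_forall_notMem]
    intro x hx
    have := Snapper.support_quotMod (JJ S) (QCoh.support_subset_of_mono (kernel.ι (q0 Z S)) hx)
    rw [support_JJ, h0, closure_empty] at this
    exact this
  haveI := Euler.subsingleton_HH_of_finite_support (GG Z L S) (hsupp ▸ Set.finite_empty)
    (fun x hx => absurd (hsupp ▸ hx) (Set.notMem_empty x)) 1 le_rfl
  exact not_subsingleton (Coh.HH X (GG Z L S) 1) inferInstance

include hL k in
/-- A minimal set of components with first cohomology. -/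
theorem exists_min {S₀ : Set X} (hS₀ : S₀ ⊆ genericPoints (X : Type u))
    (h : Nontrivial (Coh.HH X (GG Z L S₀) 1)) :
    ∃ S ⊆ S₀, Nontrivial (Coh.HH X (GG Z L S) 1) ∧
      ∀ T ⊆ S, T ≠ S → Subsingleton (Coh.HH X (GG Z L T) 1) := by
  classical
  have := Euler.isNoetherian_of_proper (X := X) k
  have hfin : S₀.Finite := (genericPoints.finite NoetherianSpace.finite_irreducibleComponents).subset hS₀
  let 𝒮 := {S : Set X | S ⊆ S₀ ∧ Nontrivial (Coh.HH X (GG Z L S) 1)}
  have h𝒮 : 𝒮.Finite := hfin.finite_subsets.subset fun S hS => hS.1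
  obtain ⟨S, hS⟩ := h𝒮.exists_minimal ⟨S₀, subset_rfl, h⟩
  refine ⟨S, hS.1.1, hS.1.2, fun T hT hne => ?_⟩
  rw [← not_nontrivial_iff_subsingleton]
  exact fun hT1 => hne (hT.antisymm (hS.2 ⟨hT.trans hS.1.1, hT1⟩ hT))

variable [IsReduced X]

theorem mono_gam [NoetherianSpace X] : Mono (gam Z (genericPoints (X : Type u))) := by
  have hsupp : ((JJ (genericPoints (X : Type u))).support : Set X) = Set.univ := by
    rw [support_JJ, genericPoints.closure]
  haveI : Mono (ClSub.toSubscheme (JJ (genericPoints (X : Type u)))) := by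
    refine QCoh.mono_of_app_injective _ fun U => ?_
    intro a b hab
    refine sub_eq_zero.1 ((basicOpen_eq_bot_iff (show Γ(X, U) from a - b)).1 ?_)
    by_contra hne
    obtain ⟨x, hx⟩ := (TopologicalSpace.Opens.ne_bot_iff_nonempty _).1 hne
    obtain ⟨y, rfl⟩ := (((JJ (genericPoints (X : Type u))).range_subschemeι).trans hsupp).ge (Set.mem_univ x)
    have h0 : (JJ (genericPoints (X : Type u))).subschemeι.app U (show Γ(X, U) from a - b) = 0 :=
      (map_sub ((ClSub.toSubscheme (JJ (genericPoints (X : Type u)))).app U).hom a b).trans (sub_eq_zero.2 hab)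
    have h1 : y ∈ (JJ (genericPoints (X : Type u))).subschemeι ⁻¹ᵁ X.basicOpen (show Γ(X, U) from a - b) := hx
    rw [Scheme.preimage_basicOpen, h0, Scheme.basicOpen_zero] at h1
    exact h1
  haveI : Mono (ClSub.idealModι Z ≫ ClSub.toSubscheme (JJ (genericPoints (X : Type u)))) := by
    haveI : Mono (ClSub.idealModι Z) := inferInstanceAs (Mono (kernel.ι _))
    exact mono_comp _ _
  exact mono_of_mono_fac (gam_ι Z _)

include hL k in
/-- The twisted ideal of `Z` is the one on the union of all components. -/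
theorem nontrivial_GG_univ [NoetherianSpace X] (h : Nontrivial (Coh.HH X (CohB1.tensorMod (ClSub.idealMod Z) L) 1)) :
    Nontrivial (Coh.HH X (GG Z L (genericPoints (X : Type u))) 1) := by
  haveI := mono_gam Z
  haveI : IsIso (gam Z (genericPoints (X : Type u))) := isIso_of_mono_of_epi _
  have e := (Euler.hhEquiv (A := k) ((tF L).mapIso (asIso (gam Z (genericPoints (X : Type u))))) 1).toEquiv
  haveI : Nontrivial (Coh.HH X ((tF L).obj (ClSub.idealMod Z)) 1) := h
  exact e.symm.nontrivial

theorem euler_PP_eq (S : Set X) : Curv2.euler k X (PP L S) =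
    @Curv2.euler k _ (JJ S).subscheme ⟨(JJ S).subschemeι ≫ (X ↘ (Spec (CommRingCat.of k)))⟩
      ((Scheme.Modules.pullback (JJ S).subschemeι).obj L) →
    Curv2.euler k X (PP L S) ≤ - Curv2.euler k X (ClSub.quotMod (JJ S)) +
      Module.finrank k (Coh.HH X (ClSub.quotMod (Z ⊔ JJ S)) 0) →
    @Curv2.deg k _ (JJ S).subscheme ⟨(JJ S).subschemeι ≫ (X ↘ (Spec (CommRingCat.of k)))⟩
        ((Scheme.Modules.pullback (JJ S).subschemeι).obj L) 1 ≤
      -2 * @Curv2.euler k _ (JJ S).subscheme ⟨(JJ S).subschemeι ≫ (X ↘ (Spec (CommRingCat.of k)))⟩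
          (Coh.structureModule (JJ S).subscheme) +
        Module.finrank k (Coh.HH X (ClSub.quotMod (Z ⊔ JJ S)) 0) := by
  intro h1 h2
  rw [Curv2.deg, ← h1, ← Snapper.euler_quotMod k (JJ S)]
  push_cast
  linarith

variable [ConnectedSpace X]

include hL in
/-- **A subcurve of small degree when `H¹(I ⊗ L) ≠ 0`.** -/
theorem exists_subcurve (hdim : topologicalKrullDim X = 1)
    (hZ : ∀ η ∈ genericPoints (X : Type u), η ∉ (Z.support : Set X))
    {S₀ : Set X} (hS₀ : S₀ ⊆ genericPoints (X : Type u)) (h1 : Nontrivial (Coh.HH X (GG Z L S₀) 1)) :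
    ∃ J : X.IdealSheafData, IsReduced J.subscheme ∧ ConnectedSpace J.subscheme ∧
      topologicalKrullDim J.subscheme = 1 ∧
      @Curv2.deg k _ J.subscheme ⟨J.subschemeι ≫ (X ↘ (Spec (CommRingCat.of k)))⟩
          ((Scheme.Modules.pullback J.subschemeι).obj L) 1 ≤
        -2 * @Curv2.euler k _ J.subscheme ⟨J.subschemeι ≫ (X ↘ (Spec (CommRingCat.of k)))⟩
            (Coh.structureModule J.subscheme) +
          Module.finrank k (Coh.HH X (ClSub.quotMod (Z ⊔ J)) 0) := by
  have := Euler.isNoetherian_of_proper (X := X) k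
  obtain ⟨S, hS, hne, hmin⟩ := exists_min Z hL k hS₀ h1
  have hS' := hS.trans hS₀
  refine ⟨JJ S, isReduced_JJ S,
    connectedSpace_of_min Z hL hS' k hdim.le hZ hmin hne (nonempty_of_nontrivial Z hL k hne),
    dim_JJ hdim hS' (nonempty_of_nontrivial Z hL k hne), ?_⟩
  exact euler_PP_eq Z k S (Snapper.euler_tF_quotMod k (JJ S) (Euler.isFinLocFree_of_isInvertible hL))
    (euler_le Z hL hS' k hdim.le hZ hmin hne)

end GrothLib.SubCurve16
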