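import Groth.Agent.Lib.SubCurve16.Pairing
import Groth.Agent.Lib.SubCurve16.Subcurve

/-!
# No base points on minimal subcurves
-/

set_option autoImplicit false
set_option backward.isDefEq.respectTransparency false
set_option linter.all false
set_option maxHeartbeats 4000000

universe u

open CategoryTheory CategoryTheory.Limits AlgebraicGeometry TopologicalSpace Opposite

noncomputable section

namespace GrothLib.SubCurve16

open GrothLib.QCoh (stalkLin)
open GrothLib.Euler (tF smulMod)

variable {X : Scheme.{u}}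

theorem finrank_H0_pos {Y : Scheme.{u}} (k : Type u) [Field k] [Y.Over (Spec (CommRingCat.of k))]
    [IsProper (Y ↘ Spec (CommRingCat.of k))] [Nonempty Y] :
    0 < Module.finrank k (Coh.HH Y (Coh.structureModule Y) 0) := by
  haveI := Euler.finiteDimensional_HH k (Euler.isCoh_of_isInvertible (Euler.isInvertible_structure (X := Y))) 0
  haveI : Nonempty (⊤ : Y.Opens) := ⟨⟨Classical.arbitrary Y, trivial⟩⟩
  haveI : Nontrivial Γ(Y, ⊤) := inferInstance
  haveI : Nontrivial Γ(Coh.structureModule Y, ⊤) := ‹Nontrivial Γ(Y, ⊤)›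
  haveI : Nontrivial (Coh.HH Y (Coh.structureModule Y) 0) :=
    (ProjCoh.H0top (Coh.structureModule Y)).toEquiv.nontrivial
  exact Module.finrank_pos

variable (k : Type u) [Field k] [X.Over (Spec (CommRingCat.of k))] [IsProper (X ↘ Spec (CommRingCat.of k))]

theorem finrank_quotMod_eq (J : X.IdealSheafData) (i : ℕ) :
    Module.finrank k (Coh.HH X (ClSub.quotMod J) i) =
      @Module.finrank k (Coh.HH J.subscheme (Coh.structureModule J.subscheme) i) _ _
        (letI : J.subscheme.Over (Spec (CommRingCat.of k)) := ⟨J.subschemeι ≫ (X ↘ (Spec (CommRingCat.of k)))⟩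
         inferInstance) := by
  letI : J.subscheme.Over (Spec (CommRingCat.of k)) := ⟨J.subschemeι ≫ X ↘ Spec (CommRingCat.of k)⟩
  haveI := Cohom.isQuasicoherent_structureModule J.subscheme
  obtain ⟨e⟩ := Snapper.nonempty_HH_linearEquiv_pushforward (A := k) J.subschemeι rfl (Coh.structureModule J.subscheme) i
  exact e.finrank_eq.symm

variable [IsReduced X] [ConnectedSpace X] (hdim : topologicalKrullDim X = 1) {L : X.Modules} (hL : PicF.IsInvertible L)
  (hdeg : ∀ J : X.IdealSheafData, IsReduced J.subscheme → ConnectedSpace J.subscheme → topologicalKrullDim J.subscheme = 1 →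
    2 * (@Curv2.genus k _ J.subscheme ⟨J.subschemeι ≫ (X ↘ (Spec (CommRingCat.of k)))⟩ : ℤ) ≤
      @Curv2.deg k _ J.subscheme ⟨J.subschemeι ≫ (X ↘ (Spec (CommRingCat.of k)))⟩
        ((Scheme.Modules.pullback J.subschemeι).obj L) 1)

include hdim hdeg in
/-- On a connected subcurve `2 h¹(O) - ... ≤ deg`: in terms of Euler characteristics on `X`. -/
theorem euler_lower {S : Set X} (hS : S ⊆ genericPoints (X : Type u)) (hne : S.Nonempty)
    (hc : ConnectedSpace (JJ S).subscheme) (hL : PicF.IsInvertible L) :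
    1 ≤ Module.finrank k (Coh.HH X (ClSub.quotMod (JJ S)) 0) ∧
    2 * (Module.finrank k (Coh.HH X (ClSub.quotMod (JJ S)) 1) : ℤ) ≤
      Curv2.euler k X (PP L S) - Curv2.euler k X (ClSub.quotMod (JJ S)) := by
  have := Euler.isNoetherian_of_proper (X := X) k
  letI : (JJ S).subscheme.Over (Spec (CommRingCat.of k)) := ⟨(JJ S).subschemeι ≫ X ↘ Spec (CommRingCat.of k)⟩
  haveI : IsProper ((JJ S).subscheme ↘ Spec (CommRingCat.of k)) :=
    inferInstanceAs (IsProper ((JJ S).subschemeι ≫ X ↘ Spec (CommRingCat.of k)))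
  refine ⟨?_, ?_⟩
  · rw [finrank_quotMod_eq k (JJ S) 0]
    exact finrank_H0_pos k
  · have h := hdeg (JJ S) (isReduced_JJ S) hc (dim_JJ hdim hS hne)
    rw [finrank_quotMod_eq k (JJ S) 1, Snapper.euler_quotMod k (JJ S),
      Snapper.euler_tF_quotMod k (JJ S) (Euler.isFinLocFree_of_isInvertible hL)]
    rw [Curv2.deg, Nat.cast_one, one_mul] at h
    exact h

include hdim hdeg hL in
/-- First cohomology vanishes on all subcurves. -/
theorem subsingleton_H1_PP {S₀ : Set X} (hS₀ : S₀ ⊆ genericPoints (X : Type u)) :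
    Subsingleton (Coh.HH X (PP L S₀) 1) := by
  have := Euler.isNoetherian_of_proper (X := X) k
  have hZ : ∀ η ∈ genericPoints (X : Type u), η ∉ ((⊤ : X.IdealSheafData).support : Set X) := by simp
  have hempty : ∀ T : Set X, CohB1.support (ClSub.quotMod ((⊤ : X.IdealSheafData) ⊔ JJ T)) = ∅ := fun T =>
    Set.eq_empty_of_subset_empty ((Snapper.support_quotMod _).trans (by simp))
  rw [← not_nontrivial_iff_subsingleton]
  intro h
  haveI hQ : Subsingleton (Coh.HH X (QQ ⊤ L S₀) 1) := by
    have he : CohB1.support (QQ ⊤ L S₀) = ∅ := (support_tF hL).trans (hempty S₀)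
    exact Euler.subsingleton_HH_of_finite_support _ (he ▸ Set.finite_empty)
      (fun x hx => absurd (he ▸ hx) (Set.notMem_empty x)) 1 le_rfl
  have hne0 : Nontrivial (Coh.HH X (GG ⊤ L S₀) 1) := by
    rw [← not_subsingleton_iff_nontrivial]
    intro hG
    haveI : Subsingleton (Coh.HH X (twistSeq ⊤ L S₀).X₁ 1) := hG
    haveI : Subsingleton (Coh.HH X (twistSeq ⊤ L S₀).X₃ 1) := hQ
    exact not_subsingleton (Coh.HH X (PP L S₀) 1)
      (Euler.subsingleton_of_exact (Cohom.exact₂ (A := k) (twistSeq_shortExact ⊤ hL S₀) 1))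
  obtain ⟨S, hSS, hne, hmin⟩ := exists_min ⊤ hL k hS₀ hne0
  have hS := hSS.trans hS₀
  have hnonempty := nonempty_of_nontrivial ⊤ hL k hne
  have hc := connectedSpace_of_min ⊤ hL hS k hdim.le hZ hmin hne hnonempty
  obtain ⟨h1, h2⟩ := euler_lower k hdim hdeg hS hnonempty hc hL
  have h3 := euler_le ⊤ hL hS k hdim.le hZ hmin hne
  haveI := (Snapper.isCoh_quotMod k (JJ S)).1
  have h4 := Euler.euler_eq_sub k hdim.le (ClSub.quotMod (JJ S))
  have h5 : (Module.finrank k (Coh.HH X (ClSub.quotMod ((⊤ : X.IdealSheafData) ⊔ JJ S)) 0) : ℤ) = 0 := by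
    rw [← Euler.euler_eq_of_finite_support k _ (hempty S ▸ Set.finite_empty)
      (fun x hx => absurd (hempty S ▸ hx) (Set.notMem_empty x))]
    haveI : Subsingleton (Coh.HH X (ClSub.quotMod ((⊤ : X.IdealSheafData) ⊔ JJ S)) 0) := by
      haveI : Subsingleton Γ(ClSub.quotMod ((⊤ : X.IdealSheafData) ⊔ JJ S), ⊤) :=
        subsingleton_of_forall_eq 0 fun s => QCoh.section_eq_zero_of_germ _ s fun x _ =>
          @Subsingleton.elim _ (QCoh.stalk_subsingleton_of_notMem (by rw [hempty]; exact Set.notMem_empty x)) _ _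
      exact (ProjCoh.H0top _).toEquiv.subsingleton
    rw [Euler.euler_eq_of_finite_support k _ (hempty S ▸ Set.finite_empty)
      (fun x hx => absurd (hempty S ▸ hx) (Set.notMem_empty x)), Module.finrank_zero_of_subsingleton, Nat.cast_zero]
  omega

variable (Z : X.IdealSheafData)

/-- No section of `L` on the subcurve is nonzero on `Z`. -/
def NoSection (L : X.Modules) (S : Set X) : Prop :=
  ∀ z : Coh.HH X (PP L S) 0, Cohom.hhMap k (qq Z L S) 0 z = 0

omit [IsReduced X] [ConnectedSpace X] in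
theorem rP_qq (L : X.Modules) {S T : Set X} (h : T ⊆ S) :
    qq Z L S ≫ (tF L).map (Lef.quotMap (sup_le_sup_left (JJ_anti h) Z)) =
      (tF L).map (Lef.quotMap (JJ_anti h)) ≫ qq Z L T := by
  rw [← Functor.map_comp, ← Functor.map_comp, q0_natural Z h]

omit [IsReduced X] [ConnectedSpace X] in
theorem isIso_quotMap_of_eq {I J : X.IdealSheafData} (h : I ≤ J) (e : I = J) : IsIso (Lef.quotMap h) := by
  subst e
  haveI := Euler.epi_toSubscheme I
  have : Lef.quotMap h = 𝟙 _ := by
    rw [← cancel_epi (ClSub.toSubscheme I), LefEt7.toSubscheme_quotMap, Category.comp_id]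
  rw [this]
  infer_instance

variable {Z}
variable {x : X} (hsupp : (Z.support : Set X) ⊆ {x}) (hsup : ∀ T : Set X, x ∈ closure T → Z ⊔ JJ T = Z)
  (hx : x ∈ (Z.support : Set X)) (hxcl : IsClosed ({x} : Set X))

include hL hsupp hsup hx hxcl hdim hdeg in
/-- The classes killed off each component. -/
theorem exists_ker_class {S : Set X} (hS : S ⊆ genericPoints (X : Type u)) (hxS : x ∈ closure S)
    (hns : NoSection k Z L S)
    (hmin : ∀ T ⊆ S, T ≠ S → x ∈ closure T → ¬ NoSection k Z L T) {η : X} (hη : η ∈ S) :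
    ∃ v : Coh.HH X (GG Z L S) 1, v ≠ 0 ∧
      Cohom.hhMap k (rG Z L (Set.sdiff_subset : S \ {η} ⊆ S)) 1 v = 0 := by
  have := Euler.isNoetherian_of_proper (X := X) k
  let T : Set X := S \ {η}
  have hT : T ⊆ S := Set.sdiff_subset
  have hTne : T ≠ S := fun h => (h.ge hη).2 rfl
  let rQ := (tF L).map (Lef.quotMap (sup_le_sup_left (JJ_anti hT) Z))
  let rP := (tF L).map (Lef.quotMap (JJ_anti hT))
  let φ : twistSeq Z L S ⟶ twistSeq Z L T := ShortComplex.homMk (rG Z L hT) rP rQ
    (by rw [← Functor.map_comp, ← Functor.map_comp, rK_ι]) (rP_qq Z L hT).symm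
  have hδinj : ∀ q : Coh.HH X (QQ Z L S) 0,
      Cohom.hhDelta k (twistSeq_shortExact Z hL S) 0 q = 0 → q = 0 := by
    intro q hq
    obtain ⟨z, hz⟩ := (Cohom.exact₃ (A := k) (twistSeq_shortExact Z hL S) 0 q).1 hq
    exact hz.symm.trans (hns z)
  obtain ⟨q, hq0, z, hz⟩ : ∃ q : Coh.HH X (QQ Z L S) 0, q ≠ 0 ∧
      ∃ z : Coh.HH X (PP L T) 0, Cohom.hhMap k (qq Z L T) 0 z = Cohom.hhMap k rQ 0 q := by
    by_cases hxT : x ∈ closure T
    · obtain ⟨z, hz⟩ : ∃ z, Cohom.hhMap k (qq Z L T) 0 z ≠ 0 := by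
        by_contra hall
        exact hmin T hT hTne hxT fun z => not_not.1 fun hz => hall ⟨z, hz⟩
      haveI := isIso_quotMap_of_eq (sup_le_sup_left (JJ_anti hT) Z) ((hsup S hxS).trans (hsup T hxT).symm)
      haveI : IsIso rQ := inferInstanceAs (IsIso ((tF L).map _))
      let e := Euler.hhEquiv (A := k) (asIso rQ) 0
      have he : Cohom.hhMap k rQ 0 (e.symm (Cohom.hhMap k (qq Z L T) 0 z)) = Cohom.hhMap k (qq Z L T) 0 z :=
        e.apply_symm_apply _
      exact ⟨e.symm (Cohom.hhMap k (qq Z L T) 0 z), fun h => hz (by rw [← he, h, map_zero]), z, he.symm⟩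
    · have hΓ : Subsingleton Γ(QQ Z L T, ⊤) := by
        refine subsingleton_of_forall_eq 0 fun s => QCoh.section_eq_zero_of_germ _ s fun y _ => ?_
        refine @Subsingleton.elim _ (QCoh.stalk_subsingleton_of_notMem fun hy => ?_) _ _
        rw [support_tF hL] at hy
        have := Snapper.support_quotMod _ hy
        rw [Scheme.IdealSheafData.support_sup] at this
        exact hxT ((Set.mem_singleton_iff.1 (hsupp this.1)) ▸ this.2)
      have hzero : Subsingleton (Coh.HH X (QQ Z L T) 0) :=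
        @Equiv.subsingleton _ _ (ProjCoh.H0top _).toEquiv hΓ
      have hnt : Nontrivial (Coh.HH X (QQ Z L S) 0) := by
        rw [← not_subsingleton_iff_nontrivial]
        intro hsub
        have hle : CohB1.support (QQ Z L S) ⊆ {x} := by
          rw [support_tF hL]
          refine (Snapper.support_quotMod _).trans ?_
          rw [Scheme.IdealSheafData.support_sup]
          exact Set.inter_subset_left.trans hsupp
        have h0 := Euler.isZero_of_subsingleton_H0 _ ((Set.finite_singleton x).subset hle)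
          (fun y hy => (Set.mem_singleton_iff.1 (hle hy)) ▸ hxcl) hsub
        obtain ⟨e⟩ := nonempty_stalk_tF (M := ClSub.quotMod (Z ⊔ JJ S)) hL x
        haveI := nontrivial_stalk_quotMod (I := Z ⊔ JJ S) (x := x)
          (by rw [Scheme.IdealSheafData.support_sup]; exact ⟨hx, hxS⟩)
        exact not_subsingleton ((ClSub.quotMod (Z ⊔ JJ S)).presheaf.stalk x)
          (@Equiv.subsingleton _ _ e.symm.toEquiv (ModuleCat.subsingleton_of_isZero ((OX.stalk x).map_isZero h0)))
      obtain ⟨q, hq⟩ := exists_ne (0 : Coh.HH X (QQ Z L S) 0)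
      exact ⟨q, hq, 0, @Subsingleton.elim _ hzero _ _⟩
  refine ⟨Cohom.hhDelta k (twistSeq_shortExact Z hL S) 0 q, fun h => hq0 (hδinj q h), ?_⟩
  refine (Euler.hhDelta_naturality (A := k) (twistSeq_shortExact Z hL S) (twistSeq_shortExact Z hL T) φ 0 q).trans ?_
  exact (Cohom.exact₃ (A := k) (twistSeq_shortExact Z hL T) 0 _).2 ⟨z, hz⟩

omit [ConnectedSpace X] in
include hL in
/-- A section on one part of a disconnected curve extends. -/
theorem not_noSection_of_split {S T : Set X} (hS : S ⊆ genericPoints (X : Type u)) (hTS : T ⊆ S)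
    (t : Γ(ClSub.quotMod (JJ S), ⊤))
    (ht1 : ∀ η ∈ T, (ClSub.quotMod (JJ S)).presheaf.germ ⊤ η trivial (t - oneQ (JJ S)) = 0)
    (ht0 : ∀ η ∈ S \ T, (ClSub.quotMod (JJ S)).presheaf.germ ⊤ η trivial t = 0)
    (h : ¬ NoSection k Z L T) : ¬ NoSection k Z L S := by
  have := Euler.isNoetherian_of_proper (X := X) k
  intro hns
  refine h fun z => ?_
  haveI : PreservesColimitsOfSize.{0, 0} (tF L) := preservesColimitsOfSize_shrink.{0, u, 0, u} _
  let rP := (tF L).map (Lef.quotMap (JJ_anti hTS))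
  haveI : Epi rP := (tF L).map_epi _
  let M := (tF L).map (mu (JJ S) t)
  have hinj : ∀ η ∈ T, Function.Injective (stalkLin rP η) := fun η hη => by
    obtain ⟨e⟩ := nonempty_quot_equiv (hS (hTS hη)) (subset_closure (hTS hη))
    obtain ⟨e'⟩ := nonempty_quot_equiv (hS (hTS hη)) (subset_closure hη)
    obtain ⟨f⟩ := nonempty_stalk_tF (M := ClSub.quotMod (JJ S)) hL η
    obtain ⟨f'⟩ := nonempty_stalk_tF (M := ClSub.quotMod (JJ T)) hL η
    haveI : Nontrivial ((PP L T).presheaf.stalk η) := (f'.trans e').toEquiv.nontrivial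
    exact injective_of_surjective (isField_stalk (hS (hTS hη))) (f.trans e) _ (QCoh.stalkLin_surjective _ η)
  have hkill : kernel.ι rP ≫ M = 0 := by
    refine (detect_PP hL).hom_eq_zero _ fun η hη v => ?_
    rw [QCoh.stalkLin_comp]
    by_cases hηT : η ∈ T
    · haveI := QCoh.stalk_subsingleton_of_notMem (QCoh.notMem_support_kernel_of_injective rP (hinj η hηT))
      rw [Subsingleton.elim v 0, map_zero, map_zero]
    · exact stalkLin_tF_eq_zero hL _ (fun w => stalkLin_mu_eq_zero (ht0 η ⟨hη, hηT⟩) w) _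
  let φ : PP L T ⟶ PP L S := Abelian.epiDesc rP M hkill
  have hφ : rP ≫ φ = M := Abelian.comp_epiDesc _ _ _
  have hid : φ ≫ rP = 𝟙 _ := by
    rw [← cancel_epi rP, ← Category.assoc, hφ, Category.comp_id, ← sub_eq_zero]
    refine (detect_PP hL).hom_eq_zero _ fun η hη v => ?_
    have e : M = 𝟙 _ + (tF L).map (mu (JJ S) (t - oneQ (JJ S))) := by
      have h1 : mu (JJ S) t = 𝟙 _ + mu (JJ S) (t - oneQ (JJ S)) := by
        rw [← mu_oneQ (JJ S), ← mu_add, add_sub_cancel]
      show (tF L).map (mu (JJ S) t) = _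
      rw [h1, Functor.map_add, CategoryTheory.Functor.map_id]
    rw [e, Preadditive.add_comp, Category.id_comp, add_sub_cancel_left, QCoh.stalkLin_comp,
      stalkLin_tF_eq_zero hL _ (fun w => stalkLin_mu_eq_zero (ht1 η hη) w), map_zero]
  have h1 := hns (Cohom.hhMap k φ 0 z)
  have h2 : Cohom.hhMap k ((tF L).map (Lef.quotMap (sup_le_sup_left (JJ_anti hTS) Z))) 0
      (Cohom.hhMap k (qq Z L S) 0 (Cohom.hhMap k φ 0 z)) = Cohom.hhMap k (qq Z L T) 0 z := by
    rw [← Euler.hhMap_comp, ← Euler.hhMap_comp, rP_qq Z L hTS, ← Category.assoc φ, hid, Category.id_comp]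
  rw [← h2, h1, map_zero]

include hL hdim hdeg hsupp hsup hx hxcl in
/-- **There is no subcurve on which all sections vanish at `x`.** -/
theorem not_noSection (hxg : x ∉ genericPoints (X : Type u)) :
    ¬ NoSection k Z L (genericPoints (X : Type u)) := by
  classical
  have := Euler.isNoetherian_of_proper (X := X) k
  intro hgen
  have hfin : (genericPoints (X : Type u)).Finite :=
    genericPoints.finite NoetherianSpace.finite_irreducibleComponents
  let 𝒮 := {S : Set X | S ⊆ genericPoints (X : Type u) ∧ x ∈ closure S ∧ NoSection k Z L S}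
  obtain ⟨S, hS⟩ := (hfin.finite_subsets.subset (fun S hS => hS.1 : 𝒮 ⊆ {S | S ⊆ _})).exists_minimal
    ⟨_, subset_rfl, (by rw [genericPoints.closure]; trivial : x ∈ closure (genericPoints (X : Type u))), hgen⟩
  obtain ⟨⟨hSg, hxS, hns⟩, hSmin⟩ := hS
  have hmin : ∀ T ⊆ S, T ≠ S → x ∈ closure T → ¬ NoSection k Z L T := fun T hT hne hxT hT' =>
    hne (hT.antisymm (hSmin ⟨hT.trans hSg, hxT, hT'⟩ hT))
  have hZ : ∀ η ∈ genericPoints (X : Type u), η ∉ (Z.support : Set X) := fun η hη h =>
    hxg ((Set.mem_singleton_iff.1 (hsupp h)) ▸ hη)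
  have hne : S.Nonempty := by
    by_contra h
    rw [Set.not_nonempty_iff_eq_empty.1 h, closure_empty] at hxS
    exact hxS
  have hc : ConnectedSpace (JJ S).subscheme := by
    by_contra hc
    obtain ⟨T, t, hTS, hT0, hT1, hdisj, ht1, ht0⟩ := exists_split hne hc
    have hSu : closure S = closure T ∪ closure (S \ T) := by
      rw [← closure_union, Set.union_diff_cancel hTS]
    rcases (hSu ▸ hxS : x ∈ closure T ∪ closure (S \ T)) with hxT | hxT
    · exact not_noSection_of_split k hL hSg hTS t ht1 ht0 (hmin T hTS hT1 hxT) hns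
    · refine not_noSection_of_split k hL hSg (Set.sdiff_subset : S \ T ⊆ S) (oneQ (JJ S) - t) (fun η hη => ?_)
        (fun η hη => ?_) (hmin _ Set.sdiff_subset ?_ hxT) hns
      · rw [sub_sub_cancel_left, map_neg, ht0 η hη, neg_zero]
      · have hηT : η ∈ T := by
          by_contra h
          exact hη.2 ⟨hη.1, h⟩
        rw [← neg_sub, map_neg, ht1 η hηT, neg_zero]
      · intro h
        obtain ⟨η, hη⟩ := hT0
        exact (h.ge (hTS hη)).2 hη
  have hle := finrank_H0_le_of_ker Z hL hSg k hdim.le hZ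
    fun η hη => exists_ker_class k hdim hL hdeg hsupp hsup hx hxcl hSg hxS hns hmin hη
  obtain ⟨h1, h2⟩ := euler_lower k hdim hdeg hSg hne hc hL
  have hP := isCoh_tF_quotMod hL k (JJ S)
  haveI := hP.1
  haveI := (Snapper.isCoh_quotMod k (JJ S)).1
  haveI := Euler.finiteDimensional_HH k (isCoh_GG Z hL k S) 0
  haveI := subsingleton_H1_PP k hdim hL hdeg hSg
  have h3 : Module.finrank k (Coh.HH X (PP L S) 0) ≤ Module.finrank k (Coh.HH X (GG Z L S) 0) := by
    refine LinearMap.finrank_le_finrank_of_surjective (f := Cohom.hhMap k (ii Z L S) 0) fun z => ?_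
    exact (Cohom.exact₂ (A := k) (twistSeq_shortExact Z hL S) 0 z).1 (hns z)
  have h4 := Euler.euler_eq_sub k hdim.le (PP L S)
  rw [Module.finrank_zero_of_subsingleton (M := Coh.HH X (PP L S) 1)] at h4
  have h5 := Euler.euler_eq_sub k hdim.le (ClSub.quotMod (JJ S))
  omega

end GrothLib.SubCurve16
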