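import Groth.Agent.Lib.SubCurve16.Push
import Groth.Agent.Lib.RedSub.Basic
import Groth.Agent.Lib.IdealModSec.Basic

/-!
# The twisted ideals of `Z` on unions of components
-/

set_option autoImplicit false
set_option backward.isDefEq.respectTransparency false
set_option linter.all false

universe u

open CategoryTheory CategoryTheory.Limits AlgebraicGeometry TopologicalSpace Opposite

noncomputable section

namespace GrothLib.SubCurve16

open GrothLib.QCoh (stalkLin)
open GrothLib.Euler (tF)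

variable {X : Scheme.{u}}

theorem stalkLin_zero {A B : X.Modules} (x : X) (e : A.presheaf.stalk x) : stalkLin (0 : A ⟶ B) x e = 0 :=
  LinearMap.congr_fun (congrArg ModuleCat.Hom.hom ((OX.stalk x).map_zero A B)) e

/-- The reduced ideal of the closure of a set of points. -/
abbrev JJ (S : Set X) : X.IdealSheafData :=
  Scheme.IdealSheafData.vanishingIdeal ⟨closure S, isClosed_closure⟩

instance isReduced_JJ (S : Set X) : IsReduced (JJ S).subscheme := RedSub.isReduced_subscheme_vanishingIdeal _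

theorem support_JJ (S : Set X) : ((JJ S).support : Set X) = closure S := rfl

theorem JJ_anti {S T : Set X} (h : T ⊆ S) : JJ S ≤ JJ T :=
  Scheme.IdealSheafData.vanishingIdeal_antimono (closure_mono h)

theorem quotMap_comp {I J K : X.IdealSheafData} (h : I ≤ J) (h' : J ≤ K) :
    Lef.quotMap h ≫ Lef.quotMap h' = Lef.quotMap (h.trans h') := by
  haveI := Euler.epi_toSubscheme I
  rw [← cancel_epi (ClSub.toSubscheme I), ← Category.assoc, LefEt7.toSubscheme_quotMap,
    LefEt7.toSubscheme_quotMap, LefEt7.toSubscheme_quotMap]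

instance epi_quotMap {I J : X.IdealSheafData} (h : I ≤ J) : Epi (Lef.quotMap h) := by
  haveI := Euler.epi_toSubscheme J
  exact epi_of_epi_fac (LefEt7.toSubscheme_quotMap h)

variable (Z : X.IdealSheafData)

/-- The restriction of functions on `Y` to `Z ∩ Y`. -/
abbrev q0 (S : Set X) : ClSub.quotMod (JJ S) ⟶ ClSub.quotMod (Z ⊔ JJ S) := Lef.quotMap le_sup_right

/-- The ideal of `Z ∩ Y` on `Y`. -/
abbrev KK (S : Set X) : X.Modules := kernel (q0 Z S)

theorem q0_natural {S T : Set X} (h : T ⊆ S) :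
    q0 Z S ≫ Lef.quotMap (sup_le_sup_left (JJ_anti h) Z) = Lef.quotMap (JJ_anti h) ≫ q0 Z T := by
  rw [quotMap_comp, quotMap_comp]

/-- Restriction of the ideals to smaller subcurves. -/
def rK {S T : Set X} (h : T ⊆ S) : KK Z S ⟶ KK Z T :=
  kernel.map _ _ (Lef.quotMap (JJ_anti h)) (Lef.quotMap (sup_le_sup_left (JJ_anti h) Z)) (q0_natural Z h)

theorem rK_ι {S T : Set X} (h : T ⊆ S) :
    rK Z h ≫ kernel.ι (q0 Z T) = kernel.ι (q0 Z S) ≫ Lef.quotMap (JJ_anti h) := kernel.lift_ι _ _ _

/-- The ideal of `Z` surjects onto that of `Z ∩ Y`. -/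
def gam (S : Set X) : ClSub.idealMod Z ⟶ KK Z S :=
  kernel.lift _ (ClSub.idealModι Z ≫ ClSub.toSubscheme (JJ S)) (by
    rw [Category.assoc, LefEt7.toSubscheme_quotMap le_sup_right,
      ← LefEt7.toSubscheme_quotMap (I := Z) (le_sup_left : Z ≤ Z ⊔ JJ S), ← Category.assoc]
    erw [kernel.condition, zero_comp])

theorem gam_ι (S : Set X) : gam Z S ≫ kernel.ι (q0 Z S) = ClSub.idealModι Z ≫ ClSub.toSubscheme (JJ S) :=
  kernel.lift_ι _ _ _

theorem gam_rK {S T : Set X} (h : T ⊆ S) : gam Z S ≫ rK Z h = gam Z T := by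
  rw [← cancel_mono (kernel.ι (q0 Z T)), Category.assoc, rK_ι, ← Category.assoc, gam_ι, gam_ι,
    Category.assoc, LefEt7.toSubscheme_quotMap]

/-- `I_Z` maps onto the ideal of `Z ∩ Y` in `Y`: the ideals add up. -/
instance epi_gam (S : Set X) : Epi (gam Z S) := by
  refine FormalExist7.epi_of_stalk _ fun x v => ?_
  haveI := Euler.epi_toSubscheme (JJ S)
  obtain ⟨f₀, hf₀⟩ := QCoh.stalkLin_surjective (ClSub.toSubscheme (JJ S)) x (stalkLin (kernel.ι (q0 Z S)) x v)
  obtain ⟨U₀, hx₀, f, rfl⟩ := TopCat.Presheaf.exists_germ_eq (Coh.structureModule X).presheaf f₀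
  rw [QCoh.stalkLin_germ] at hf₀
  have hz : stalkLin (ClSub.toSubscheme (Z ⊔ JJ S)) x
      ((Coh.structureModule X).presheaf.germ U₀ x hx₀ f) = 0 := by
    rw [← LefEt7.toSubscheme_quotMap (le_sup_right : JJ S ≤ Z ⊔ JJ S), QCoh.stalkLin_comp,
      QCoh.stalkLin_germ (ClSub.toSubscheme (JJ S)) hx₀ f, hf₀, ← QCoh.stalkLin_comp, kernel.condition]
    exact stalkLin_zero _ _
  rw [QCoh.stalkLin_germ] at hz
  obtain ⟨W, hxW, i₁, i₂, hW⟩ := TopCat.Presheaf.germ_eq (ClSub.quotMod (Z ⊔ JJ S)).presheaf x hx₀ hx₀ _ 0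
    (hz.trans (map_zero _).symm)
  rw [map_zero] at hW
  obtain ⟨U, hxU, hUW⟩ := BlowUp.exists_affine_mem_le hxW
  let g : Γ(X, U.1) := X.presheaf.map (homOfLE (hUW.trans i₁.le)).op (show Γ(X, U₀) from f)
  have hg : g ∈ (Z ⊔ JJ S).ideal U := by
    rw [← (Z ⊔ JJ S).ker_subschemeι_app U, RingHom.mem_ker]
    have h1 := congrArg ((ClSub.quotMod (Z ⊔ JJ S)).presheaf.map (homOfLE hUW).op) hW
    rw [map_zero, Cohom.map_map_apply] at h1
    refine Eq.trans ?_ h1
    exact PresheafOfModules.naturality_apply (ClSub.toSubscheme (Z ⊔ JJ S)).val (homOfLE (hUW.trans i₁.le)).op f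
  rw [Scheme.IdealSheafData.ideal_sup, Pi.sup_apply, Submodule.mem_sup] at hg
  obtain ⟨a, ha, b, hb, hab⟩ := hg
  obtain ⟨a', rfl⟩ := IdealModSec.exists_val_eq Z U ha
  refine ⟨(ClSub.idealMod Z).presheaf.germ U.1 x hxU a', QCoh.stalkLin_injective (kernel.ι (q0 Z S)) x ?_⟩
  rw [← QCoh.stalkLin_comp, gam_ι, ← hf₀, ← QCoh.stalkLin_germ (ClSub.toSubscheme (JJ S)) hx₀ f,
    ← TopCat.Presheaf.germ_res_apply (Coh.structureModule X).presheaf (homOfLE (hUW.trans i₁.le)) x hxU f,
    QCoh.stalkLin_germ, QCoh.stalkLin_germ]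
  refine congrArg _ ?_
  show (ClSub.toSubscheme (JJ S)).app U.1 (IdealModSec.val Z U.1 a') = (ClSub.toSubscheme (JJ S)).app U.1 g
  have hb0 : (ClSub.toSubscheme (JJ S)).app U.1 b = 0 := by
    rw [← (JJ S).ker_subschemeι_app U, RingHom.mem_ker] at hb
    exact hb
  rw [← hab]
  exact ((map_add ((ClSub.toSubscheme (JJ S)).app U.1).hom _ _).trans
    ((congrArg _ hb0).trans (add_zero _))).symm

instance epi_rK {S T : Set X} (h : T ⊆ S) : Epi (rK Z h) := epi_of_epi_fac (gam_rK Z h)

variable (L : X.Modules)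

/-- `I_{Z ∩ Y} ⊗ L`. -/
abbrev GG (S : Set X) : X.Modules := (tF L).obj (KK Z S)

/-- `O_Y ⊗ L`. -/
abbrev PP (S : Set X) : X.Modules := (tF L).obj (ClSub.quotMod (JJ S))

/-- `O_{Z ∩ Y} ⊗ L`. -/
abbrev QQ (S : Set X) : X.Modules := (tF L).obj (ClSub.quotMod (Z ⊔ JJ S))

abbrev ii (S : Set X) : GG Z L S ⟶ PP L S := (tF L).map (kernel.ι (q0 Z S))

abbrev qq (S : Set X) : PP L S ⟶ QQ Z L S := (tF L).map (q0 Z S)

abbrev rG {S T : Set X} (h : T ⊆ S) : GG Z L S ⟶ GG Z L T := (tF L).map (rK Z h)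

instance epi_rG {S T : Set X} (h : T ⊆ S) : Epi (rG Z L h) := by
  haveI : PreservesColimitsOfSize.{0, 0} (tF L) := preservesColimitsOfSize_shrink.{0, u, 0, u} _
  exact (tF L).map_epi _

theorem baseSeq (S : Set X) :
    (ShortComplex.mk (kernel.ι (q0 Z S)) (q0 Z S) (kernel.condition _)).ShortExact :=
  { exact := ShortComplex.exact_of_f_is_kernel _ (kernelIsKernel _) }

abbrev twistSeq (S : Set X) : ShortComplex X.Modules :=
  ShortComplex.mk (ii Z L S) (qq Z L S) (by rw [← Functor.map_comp, kernel.condition, Functor.map_zero])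

variable {L} (hL : PicF.IsInvertible L)

include hL in
theorem twistSeq_shortExact (S : Set X) : (twistSeq Z L S).ShortExact := by
  have hflat : FlatMod.IsFlat L := OX.flat_of_isFinLocFree (Euler.isFinLocFree_of_isInvertible hL)
  exact OX.tensor_map_shortExact (X := X) (F := L) hflat
    (S := ShortComplex.mk (kernel.ι (q0 Z S)) (q0 Z S) (kernel.condition _)) (baseSeq Z S)

include hL in
theorem mono_ii (S : Set X) : Mono (ii Z L S) := (twistSeq_shortExact Z hL S).mono_f

include hL in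
theorem detect_PP {S : Set X} : Detect (PP L S) S :=
  detect_tF_quotMod (JJ S) hL (support_JJ S).le (subset_closure.trans (support_JJ S).ge)

theorem detect_quot {S : Set X} : Detect (ClSub.quotMod (JJ S)) S :=
  detect_quotMod (JJ S) (support_JJ S).le (subset_closure.trans (support_JJ S).ge)

include hL in
theorem detect_GG {S : Set X} : Detect (GG Z L S) S :=
  haveI := mono_ii Z hL S
  (detect_PP hL).of_mono (ii Z L S)

section coh

variable (k : Type u) [Field k] [X.Over (Spec (CommRingCat.of k))] [IsProper (X ↘ Spec (CommRingCat.of k))]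

include k in
theorem isCoh_KK (S : Set X) : Coh.IsCoh (KK Z S) :=
  haveI := Euler.isNoetherian_of_proper (X := X) k
  QCoh.isCoh_kernel _ (Snapper.isCoh_quotMod k _) (Snapper.isCoh_quotMod k _)

include k hL in
theorem isCoh_GG (S : Set X) : Coh.IsCoh (GG Z L S) :=
  haveI := Euler.isNoetherian_of_proper (X := X) k
  Euler.isCoh_tF (isCoh_KK Z k S) (Euler.isFinLocFree_of_isInvertible hL)

include k hL in
theorem isCoh_tF_quotMod (I : X.IdealSheafData) : Coh.IsCoh ((tF L).obj (ClSub.quotMod I)) :=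
  haveI := Euler.isNoetherian_of_proper (X := X) k
  Euler.isCoh_tF (Snapper.isCoh_quotMod k _) (Euler.isFinLocFree_of_isInvertible hL)

end coh

/-! ### Stalks at generic points -/

variable [IsReduced X] [NoetherianSpace X] {S : Set X} (hS : S ⊆ genericPoints (X : Type u)) {η : X}
  (hη : η ∈ genericPoints (X : Type u)) (hηZ : η ∉ (Z.support : Set X))

include hS hη in
theorem notMem_support_quot (hηS : η ∉ S) : η ∉ CohB1.support (ClSub.quotMod (JJ S)) := fun h =>
  hηS (mem_of_mem_closure hS hη (support_JJ S ▸ Snapper.support_quotMod (JJ S) h))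

include hηZ in
theorem notMem_support_quot_sup : η ∉ CohB1.support (ClSub.quotMod (Z ⊔ JJ S)) := fun h => by
  have := Snapper.support_quotMod (Z ⊔ JJ S) h
  rw [Scheme.IdealSheafData.support_sup] at this
  exact hηZ this.1

theorem nontrivial_stalk_quotMod {I : X.IdealSheafData} {x : X} (hx : x ∈ (I.support : Set X)) :
    Nontrivial ((ClSub.quotMod I).presheaf.stalk x) := by
  rw [← I.range_subschemeι] at hx
  obtain ⟨y, rfl⟩ := hx
  haveI : Nontrivial ((Coh.structureModule I.subscheme).presheaf.stalk y) :=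
    (nonempty_stalkEquiv (Euler.isInvertible_structure (X := I.subscheme)) y).some.toEquiv.nontrivial
  have h2 := (QCoh.pushStalkHom_bijective I.subschemeι y (Coh.structureModule I.subscheme)
    (Scheme.Hom.isClosedEmbedding I.subschemeι).isInducing).2
  obtain ⟨a, b, hab⟩ := exists_pair_ne ((Coh.structureModule I.subscheme).presheaf.stalk y)
  obtain ⟨a', ha⟩ := h2 a
  obtain ⟨b', hb⟩ := h2 b
  exact ⟨a', b', fun h => hab (ha.symm.trans ((congrArg _ h).trans hb))⟩

include hη in
theorem bijective_toSubscheme (hηS : η ∈ closure S) :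
    Function.Bijective (stalkLin (ClSub.toSubscheme (JJ S)) η) := by
  haveI := Euler.epi_toSubscheme (JJ S)
  haveI := nontrivial_stalk_quotMod (I := JJ S) ((support_JJ S).symm ▸ hηS : η ∈ ((JJ S).support : Set X))
  obtain ⟨e⟩ := nonempty_stalkEquiv (Euler.isInvertible_structure (X := X)) η
  exact ⟨injective_of_surjective (isField_stalk hη) e _ (QCoh.stalkLin_surjective _ η),
    QCoh.stalkLin_surjective _ η⟩

include hη in
theorem nonempty_quot_equiv (hηS : η ∈ closure S) :
    Nonempty ((ClSub.quotMod (JJ S)).presheaf.stalk η ≃ₗ[X.presheaf.stalk η] X.presheaf.stalk η) := by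
  obtain ⟨e⟩ := nonempty_stalkEquiv (Euler.isInvertible_structure (X := X)) η
  exact ⟨(LinearEquiv.ofBijective _ (bijective_toSubscheme hη hηS)).symm.trans e⟩

include hηZ in
theorem bijective_kerι : Function.Bijective (stalkLin (kernel.ι (q0 Z S)) η) := by
  refine ⟨QCoh.stalkLin_injective _ η, fun v => ?_⟩
  have hex := (OX.exact_iff _).1 (baseSeq Z S).exact η
  rw [ShortComplex.moduleCat_exact_iff] at hex
  exact hex v (@Subsingleton.elim _ (QCoh.stalk_subsingleton_of_notMem (notMem_support_quot_sup Z hηZ)) _ _)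

include hη hηZ in
theorem nonempty_KK_equiv (hηS : η ∈ closure S) :
    Nonempty ((KK Z S).presheaf.stalk η ≃ₗ[X.presheaf.stalk η] X.presheaf.stalk η) := by
  obtain ⟨e⟩ := nonempty_quot_equiv hη hηS
  exact ⟨(LinearEquiv.ofBijective _ (bijective_kerι Z hηZ)).trans e⟩

include hη hηZ hL in
theorem nonempty_GG_equiv (hηS : η ∈ closure S) :
    Nonempty ((GG Z L S).presheaf.stalk η ≃ₗ[X.presheaf.stalk η] X.presheaf.stalk η) := by
  obtain ⟨e⟩ := nonempty_KK_equiv Z hη hηZ hηS
  obtain ⟨f⟩ := nonempty_stalk_tF (M := KK Z S) hL η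
  exact ⟨f.trans e⟩

include hS hη hL in
theorem notMem_support_GG (hηS : η ∉ S) : η ∉ CohB1.support (GG Z L S) := by
  rw [support_tF hL]
  exact fun h => notMem_support_quot hS hη hηS (QCoh.support_subset_of_mono (kernel.ι (q0 Z S)) h)

include hη hηZ hL in
/-- A map into `I_{Z ∩ Y} ⊗ L` nonzero at a generic point is onto there. -/
theorem surjective_GG_of_ne_zero (hηS : η ∈ closure S) {A : X.Modules} (f : A ⟶ GG Z L S)
    {v : A.presheaf.stalk η} (hv : stalkLin f η v ≠ 0) : Function.Surjective (stalkLin f η) := by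
  obtain ⟨e⟩ := nonempty_GG_equiv Z hL hη hηZ hηS
  exact surjective_of_ne_zero (isField_stalk hη) e _ hv

include hS hη hηZ hL in
/-- Restriction to a subcurve is injective at its generic points. -/
theorem injective_rG {T : Set X} (h : T ⊆ S) (hηT : η ∈ T) :
    Function.Injective (stalkLin (rG Z L h) η) := by
  obtain ⟨e⟩ := nonempty_GG_equiv Z hL hη hηZ (subset_closure (h hηT))
  obtain ⟨e'⟩ := nonempty_GG_equiv Z hL hη hηZ (subset_closure hηT)
  haveI : Nontrivial ((GG Z L T).presheaf.stalk η) := e'.toEquiv.nontrivial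
  exact injective_of_surjective (isField_stalk hη) e _ (QCoh.stalkLin_surjective _ η)

end GrothLib.SubCurve16
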