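import Groth.Agent.Lib.SubCurve16.Stalk
import Groth.Agent.Lib.QCoh.ClosedImmersion
import Groth.Agent.Lib.Snapper.Intersection
import Groth.Agent.Lib.FunMor20.Scalar
import Groth.Agent.Lib.LefEt7.Sec

/-!
# Sections of line bundles on reduced closed subschemes are detected at dense sets
-/

set_option autoImplicit false
set_option backward.isDefEq.respectTransparency false
set_option linter.all false

universe u

open CategoryTheory CategoryTheory.Limits AlgebraicGeometry TopologicalSpace Opposite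

noncomputable section

namespace GrothLib.SubCurve16

open GrothLib.QCoh (stalkLin)
open GrothLib.Euler (tF)
open GrothLib.InvExt (IsGen mres fres)

variable {X : Scheme.{u}}

/-- Sections of `M` are detected by their germs at `S`. -/
def Detect (M : X.Modules) (S : Set X) : Prop :=
  ∀ (U : X.Opens) (u : Γ(M, U)), (∀ η (hU : η ∈ U), η ∈ S → M.presheaf.germ U η hU u = 0) → u = 0

theorem Detect.of_mono {M N : X.Modules} {S : Set X} (h : Detect N S) (f : M ⟶ N) [Mono f] : Detect M S :=
  fun U u hu => QCoh.section_eq_zero_of_germ M u fun y hy => QCoh.stalkLin_injective f y (by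
    rw [QCoh.stalkLin_germ, map_zero, h U (f.app U u) fun η hU hη => by
      rw [← QCoh.stalkLin_germ f hU u, hu η hU hη, map_zero], map_zero])

/-- Maps into a detected module vanish once they vanish at the detecting points. -/
theorem Detect.hom_eq_zero {A M : X.Modules} {S : Set X} (h : Detect M S) (f : A ⟶ M)
    (hf : ∀ η ∈ S, ∀ v, stalkLin f η v = 0) : f = 0 := by
  refine Scheme.Modules.hom_ext _ _ fun U => ?_
  ext a
  refine h U (f.app U a) fun η hU hη => ?_
  rw [← QCoh.stalkLin_germ f hU a, hf η hη]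

theorem Detect.hom_ext {A M : X.Modules} {S : Set X} (h : Detect M S) (f g : A ⟶ M)
    (hf : ∀ η ∈ S, ∀ v, stalkLin f η v = stalkLin g η v) : f = g :=
  sub_eq_zero.1 (h.hom_eq_zero (f - g) fun η hη v => by
    rw [Euler.stalkLin_sub_apply, hf η hη, sub_self])

/-- Line bundles on a reduced closed subscheme are detected at dense sets of points. -/
theorem detect_push {Y : Scheme.{u}} [IsReduced Y] (ι : Y ⟶ X) [IsClosedImmersion ι] {E : Y.Modules}
    (hE : PicF.IsInvertible E) {S : Set X} (hS : Set.range ι ⊆ closure S) (hS' : S ⊆ Set.range ι) :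
    Detect ((Scheme.Modules.pushforward ι).obj E) S := by
  intro U u hu
  refine QCoh.section_eq_zero_of_germ E (U := ι ⁻¹ᵁ U) (show Γ(E, ι ⁻¹ᵁ U) from u) fun y hy => ?_
  obtain ⟨V, e, hyV, he⟩ := InvExt.exists_gen_nhd hE y
  let W : Y.Opens := V ⊓ ι ⁻¹ᵁ U
  obtain ⟨c, hc⟩ := he.exists_smul_eq (inf_le_left : W ≤ V) (mres E (inf_le_right : W ≤ ι ⁻¹ᵁ U) u)
  have hc0 : c = 0 := by
    rw [← basicOpen_eq_bot_iff]
    by_contra hne
    obtain ⟨z, hz⟩ := (TopologicalSpace.Opens.ne_bot_iff_nonempty _).1 hne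
    obtain ⟨O, hO, hOW⟩ := (Scheme.Hom.isClosedEmbedding ι).isInducing.isOpen_iff.1 (Y.basicOpen c).isOpen
    obtain ⟨η, hηO, hηS⟩ := mem_closure_iff.1 (hS ⟨z, rfl⟩) O hO
      (show z ∈ ι ⁻¹' O from hOW.symm ▸ hz)
    obtain ⟨w, rfl⟩ := hS' hηS
    have hwc : w ∈ Y.basicOpen c := by
      show w ∈ (Y.basicOpen c : Set Y)
      rw [← hOW]; exact hηO
    have hwW : w ∈ W := Y.basicOpen_le c hwc
    have h1 := hu (ι w) hwW.2 hηS
    have h2 : E.presheaf.germ (ι ⁻¹ᵁ U) w hwW.2 (show Γ(E, ι ⁻¹ᵁ U) from u) = 0 := by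
      refine (QCoh.pushStalkHom_germ ι w E U hwW.2 u).symm.trans ?_
      exact (congrArg (QCoh.pushStalkHom ι w E).hom h1).trans (map_zero _)
    obtain ⟨W', hwW', i₁, i₂, heq⟩ := TopCat.Presheaf.germ_eq E.presheaf w (U := ι ⁻¹ᵁ U) (V := ι ⁻¹ᵁ U)
      hwW.2 hwW.2 (show Γ(E, ι ⁻¹ᵁ U) from u) 0 (h2.trans (map_zero _).symm)
    have h3 : fres Y (inf_le_left : W ⊓ W' ≤ W) c = 0 := by
      refine he.smul_left_injective (W := W ⊓ W') ((inf_le_left : W ⊓ W' ≤ W).trans inf_le_left) ?_
      have := congrArg (mres E (inf_le_left : W ⊓ W' ≤ W)) hc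
      rw [InvExt.mres_mres, InvExt.mres_smul, InvExt.mres_mres] at this
      rw [← this, zero_smul]
      have h4 := congrArg (mres E (inf_le_right : W ⊓ W' ≤ W')) heq
      rw [map_zero] at h4
      refine Eq.trans ?_ (h4.trans (map_zero _))
      exact (InvExt.mres_mres E i₁.le _ _).symm
    refine not_isUnit_zero (M₀ := Y.presheaf.stalk w) ?_
    have h5 : IsUnit (Y.presheaf.germ W w hwW c) := (Scheme.mem_basicOpen _ _ _ hwW).1 hwc
    rwa [← Y.presheaf.germ_res_apply (homOfLE (inf_le_left : W ⊓ W' ≤ W)) w ⟨hwW, hwW'⟩ c,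
      show (Y.presheaf.map (homOfLE (inf_le_left : W ⊓ W' ≤ W)).op) c = 0 from h3, map_zero] at h5
  rw [← TopCat.Presheaf.germ_res_apply E.presheaf (homOfLE (inf_le_right : W ≤ ι ⁻¹ᵁ U)) y ⟨hyV, hy⟩]
  refine (congrArg (E.presheaf.germ W y ⟨hyV, hy⟩) (hc.trans (by rw [hc0, zero_smul]))).trans (map_zero _)

theorem detect_quotMod (I : X.IdealSheafData) [IsReduced I.subscheme] {S : Set X}
    (hS : (I.support : Set X) ⊆ closure S) (hS' : S ⊆ I.support) : Detect (ClSub.quotMod I) S :=
  detect_push I.subschemeι Euler.isInvertible_structure (by rwa [I.range_subschemeι]) (by rwa [I.range_subschemeι])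

/-- Tensoring with a line bundle preserves detection on reduced closed subschemes. -/
theorem detect_tF_quotMod (I : X.IdealSheafData) [IsReduced I.subscheme] {L : X.Modules}
    (hL : PicF.IsInvertible L) {S : Set X} (hS : (I.support : Set X) ⊆ closure S) (hS' : S ⊆ I.support) :
    Detect ((tF L).obj (ClSub.quotMod I)) S := by
  haveI := ProjFormula.isIso_projHom I.subschemeι (Euler.isFinLocFree_of_isInvertible hL)
    (Coh.structureModule I.subscheme)
  let E' := (Scheme.Modules.pullback I.subschemeι).obj L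
  let e1 : (tF L).obj (ClSub.quotMod I) ≅ (Scheme.Modules.pushforward I.subschemeι).obj E' :=
    ((OX.tensorBraiding (X := X)).app L).app _ ≪≫
      asIso (ProjFormula.projHom I.subschemeι L (Coh.structureModule I.subscheme)) ≪≫
      (Scheme.Modules.pushforward I.subschemeι).mapIso (Euler.tFUnitIso E')
  exact (detect_push I.subschemeι (Ample.isInvertible_pullback I.subschemeι hL)
    (by rwa [I.range_subschemeι]) (by rwa [I.range_subschemeι])).of_mono e1.hom

/-- Multiplication by a function on a closed subscheme. -/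
def mu (I : X.IdealSheafData) (t : Γ(ClSub.quotMod I, ⊤)) : ClSub.quotMod I ⟶ ClSub.quotMod I :=
  (Scheme.Modules.pushforward I.subschemeι).map
    (FinCov.homOfSection (show Γ(Coh.structureModule I.subscheme, ⊤) from t))

theorem toSubscheme_mu (I : X.IdealSheafData) (t : Γ(ClSub.quotMod I, ⊤)) :
    ClSub.toSubscheme I ≫ mu I t = FinCov.homOfSection t := by
  refine FunMor20.homOfSection_unique ?_
  refine Eq.trans ?_ ((FinCov.homOfSection_one (N := ClSub.quotMod I) t ⊤).trans (LefEt7.presheaf_map_self _ _ _)).symm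
  show (FinCov.homOfSection (show Γ(Coh.structureModule I.subscheme, ⊤) from t)).app ⊤
    (I.subschemeι.appTop (1 : Γ(X, ⊤))) = t
  rw [map_one]
  exact (FinCov.homOfSection_one (N := Coh.structureModule I.subscheme) (show Γ(Coh.structureModule I.subscheme, ⊤) from t) ⊤).trans
    (LefEt7.presheaf_map_self _ _ _)

end GrothLib.SubCurve16
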