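import Groth.Agent.Lib.SubCurve16.Setup
import Groth.Agent.Lib.CurveMult.H1Bound
import Groth.Agent.Lib.SerrePn27.HomTwist

/-!
# Minimal subcurves with first cohomology: the pairing inequalities
-/

set_option autoImplicit false
set_option backward.isDefEq.respectTransparency false
set_option linter.all false
set_option maxHeartbeats 1000000

universe u

open CategoryTheory CategoryTheory.Limits AlgebraicGeometry TopologicalSpace Opposite

noncomputable section

namespace GrothLib.SubCurve16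

open GrothLib.QCoh (stalkLin)
open GrothLib.Euler (tF smulMod)

variable {X : Scheme.{u}}

theorem homOfSection_comp {M N : X.Modules} (s : Γ(M, ⊤)) (f : M ⟶ N) :
    FinCov.homOfSection s ≫ f = FinCov.homOfSection (f.app ⊤ s) := by
  refine FunMor20.homOfSection_unique ?_
  refine Eq.trans ?_ ((FinCov.homOfSection_one (f.app ⊤ s) ⊤).trans (LefEt7.presheaf_map_self _ _ _)).symm
  exact congrArg (f.app ⊤) ((FinCov.homOfSection_one s ⊤).trans (LefEt7.presheaf_map_self _ _ _))

theorem stalkLin_homOfSection {M : X.Modules} (s : Γ(M, ⊤)) (x : X) :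
    stalkLin (FinCov.homOfSection s) x ((Coh.structureModule X).presheaf.germ ⊤ x trivial (FinCov.one X ⊤)) =
      M.presheaf.germ ⊤ x trivial s := by
  rw [QCoh.stalkLin_germ]
  exact congrArg _ ((FinCov.homOfSection_one s ⊤).trans (LefEt7.presheaf_map_self _ _ _))

theorem stalkLin_homOfSection_eq_zero {M : X.Modules} {s : Γ(M, ⊤)} {x : X}
    (h : M.presheaf.germ ⊤ x trivial s = 0) (v : (Coh.structureModule X).presheaf.stalk x) :
    stalkLin (FinCov.homOfSection s) x v = 0 := by
  obtain ⟨U, hU, a, rfl⟩ := TopCat.Presheaf.exists_germ_eq (Coh.structureModule X).presheaf v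
  rw [QCoh.stalkLin_germ, Euler.homOfSection_app, WeakAss.germ_smul, TopCat.Presheaf.germ_res_apply, h,
    smul_zero]

theorem smulMod_natural {M N : X.Modules} (f : M ⟶ N) (r : Coh.Γtop X) :
    f ≫ smulMod N r = smulMod M r ≫ f := by
  refine Scheme.Modules.hom_ext _ _ fun U => ?_
  ext a
  exact (Scheme.Modules.Hom.app_smul f _ a).symm

theorem tF_map_smulMod (L M : X.Modules) (r : Coh.Γtop X) :
    (tF L).map (smulMod M r) = smulMod ((tF L).obj M) r :=
  SerrePn27.tF_map_smulModΓ M L r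

variable (Z : X.IdealSheafData) {L : X.Modules} (hL : PicF.IsInvertible L) [IsReduced X] [NoetherianSpace X]
  {S : Set X} (hS : S ⊆ genericPoints (X : Type u))

include hS in
theorem idealModι_homOfSection {M : X.Modules} (hM : Detect M S) (s : Γ(M, ⊤)) :
    ClSub.idealModι (JJ S) ≫ FinCov.homOfSection s = 0 := by
  refine hM.hom_eq_zero _ fun η hη v => ?_
  have h : stalkLin (ClSub.idealModι (JJ S)) η v = 0 := by
    refine (bijective_toSubscheme (hS hη) (subset_closure hη)).1 ?_
    rw [map_zero, ← QCoh.stalkLin_comp]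
    erw [kernel.condition]
    exact stalkLin_zero η v
  rw [QCoh.stalkLin_comp, h, map_zero]

/-- A section of `I_{Z ∩ Y} ⊗ L` as a map from `O_Y`. -/
def sigma (s : Γ(GG Z L S, ⊤)) : ClSub.quotMod (JJ S) ⟶ GG Z L S :=
  haveI := Euler.epi_toSubscheme (JJ S)
  Abelian.epiDesc (ClSub.toSubscheme (JJ S)) (FinCov.homOfSection s)
    (idealModι_homOfSection hS (detect_GG Z hL) s)

theorem toSubscheme_sigma (s : Γ(GG Z L S, ⊤)) :
    ClSub.toSubscheme (JJ S) ≫ sigma Z hL hS s = FinCov.homOfSection s :=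
  haveI := Euler.epi_toSubscheme (JJ S)
  Abelian.comp_epiDesc _ _ _

theorem sigma_add (s t : Γ(GG Z L S, ⊤)) : sigma Z hL hS (s + t) = sigma Z hL hS s + sigma Z hL hS t := by
  haveI := Euler.epi_toSubscheme (JJ S)
  rw [← cancel_epi (ClSub.toSubscheme (JJ S)), Preadditive.comp_add, toSubscheme_sigma, toSubscheme_sigma,
    toSubscheme_sigma, CurveMult.homOfSection_add]

theorem sigma_smul (r : Coh.Γtop X) (s : Γ(GG Z L S, ⊤)) :
    sigma Z hL hS ((show Γ(X, ⊤) from r) • s) = sigma Z hL hS s ≫ smulMod _ r := by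
  haveI := Euler.epi_toSubscheme (JJ S)
  rw [← cancel_epi (ClSub.toSubscheme (JJ S)), ← Category.assoc, toSubscheme_sigma, toSubscheme_sigma,
    CurveMult.homOfSection_smul]

/-- Multiplication on the ideal of `Z ∩ Y`. -/
def nuK (S : Set X) (t : Γ(ClSub.quotMod (JJ S), ⊤)) : KK Z S ⟶ KK Z S :=
  kernel.map _ _ (mu (JJ S) t) (mu (Z ⊔ JJ S) ((q0 Z S).app ⊤ t)) (by
    haveI := Euler.epi_toSubscheme (JJ S)
    rw [← cancel_epi (ClSub.toSubscheme (JJ S)), ← Category.assoc, ← Category.assoc,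
      LefEt7.toSubscheme_quotMap, toSubscheme_mu, toSubscheme_mu, homOfSection_comp])

omit [IsReduced X] [NoetherianSpace X] in
theorem nuK_ι (S : Set X) (t : Γ(ClSub.quotMod (JJ S), ⊤)) :
    nuK Z S t ≫ kernel.ι (q0 Z S) = kernel.ι (q0 Z S) ≫ mu (JJ S) t := kernel.lift_ι _ _ _

omit [IsReduced X] [NoetherianSpace X] in
theorem mu_add (I : X.IdealSheafData) (s t : Γ(ClSub.quotMod I, ⊤)) : mu I (s + t) = mu I s + mu I t := by
  haveI := Euler.epi_toSubscheme I
  rw [← cancel_epi (ClSub.toSubscheme I), Preadditive.comp_add, toSubscheme_mu, toSubscheme_mu,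
    toSubscheme_mu, CurveMult.homOfSection_add]

omit [IsReduced X] [NoetherianSpace X] in
theorem mu_smul (I : X.IdealSheafData) (r : Coh.Γtop X) (t : Γ(ClSub.quotMod I, ⊤)) :
    mu I ((show Γ(X, ⊤) from r) • t) = mu I t ≫ smulMod _ r := by
  haveI := Euler.epi_toSubscheme I
  rw [← cancel_epi (ClSub.toSubscheme I), ← Category.assoc, toSubscheme_mu, toSubscheme_mu,
    CurveMult.homOfSection_smul]

omit [IsReduced X] [NoetherianSpace X] in
theorem stalkLin_mu_eq_zero {I : X.IdealSheafData} {t : Γ(ClSub.quotMod I, ⊤)} {x : X}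
    (h : (ClSub.quotMod I).presheaf.germ ⊤ x trivial t = 0) (v : (ClSub.quotMod I).presheaf.stalk x) :
    stalkLin (mu I t) x v = 0 := by
  haveI := Euler.epi_toSubscheme I
  obtain ⟨w, rfl⟩ := QCoh.stalkLin_surjective (ClSub.toSubscheme I) x v
  rw [← QCoh.stalkLin_comp, toSubscheme_mu, stalkLin_homOfSection_eq_zero h]

/-- Multiplication on `I_{Z ∩ Y} ⊗ L`. -/
abbrev nuG (L : X.Modules) (S : Set X) (t : Γ(ClSub.quotMod (JJ S), ⊤)) : GG Z L S ⟶ GG Z L S :=
  (tF L).map (nuK Z S t)

omit [IsReduced X] [NoetherianSpace X] in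
theorem nuG_add (s t : Γ(ClSub.quotMod (JJ S), ⊤)) : nuG Z L S (s + t) = nuG Z L S s + nuG Z L S t := by
  have : nuK Z S (s + t) = nuK Z S s + nuK Z S t := by
    rw [← cancel_mono (kernel.ι (q0 Z S)), Preadditive.add_comp, nuK_ι, nuK_ι, nuK_ι, mu_add,
      Preadditive.comp_add]
  show (tF L).map (nuK Z S (s + t)) = _
  rw [this, Functor.map_add]

omit [IsReduced X] [NoetherianSpace X] in
theorem nuG_smul (r : Coh.Γtop X) (t : Γ(ClSub.quotMod (JJ S), ⊤)) :
    nuG Z L S ((show Γ(X, ⊤) from r) • t) = nuG Z L S t ≫ smulMod _ r := by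
  have : nuK Z S ((show Γ(X, ⊤) from r) • t) = nuK Z S t ≫ smulMod _ r := by
    rw [← cancel_mono (kernel.ι (q0 Z S)), nuK_ι, mu_smul, Category.assoc, ← smulMod_natural,
      ← Category.assoc, ← Category.assoc, nuK_ι]
  show (tF L).map (nuK Z S _) = _
  rw [this, Functor.map_comp, tF_map_smulMod]

variable (k : Type u) [Field k] [X.Over (Spec (CommRingCat.of k))] [IsProper (X ↘ Spec (CommRingCat.of k))]
  (hd : topologicalKrullDim X ≤ 1) (hZ : ∀ η ∈ genericPoints (X : Type u), η ∉ (Z.support : Set X))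
  (hmin : ∀ T ⊆ S, T ≠ S → Subsingleton (Coh.HH X (GG Z L T) 1))

include k hd hZ hL hS hmin in
/-- A map onto `I_{Z ∩ Y} ⊗ L` at one generic point is surjective on first cohomology. -/
theorem surjective_H1_of_min {M : X.Modules} (hM : Coh.IsCoh M) (f : M ⟶ GG Z L S) {η₀ : X} (h₀ : η₀ ∈ S)
    (hs : Function.Surjective (stalkLin f η₀)) : Function.Surjective (Cohom.hhMap k f 1) := by
  have := Euler.isNoetherian_of_proper (X := X) k
  have hG := isCoh_GG Z hL k S
  have hC := QCoh.isCoh_cokernel f hM hG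
  refine surjective_H1_of_cokernel k hd f hM hG ?_
  let T : Set X := {η | η ∈ S ∧ η ∈ CohB1.support (cokernel f)}
  have hT : T ⊆ S := fun η h => h.1
  have hTne : T ≠ S := fun h => QCoh.notMem_support_cokernel_of_surjective f hs
    ((h.symm ▸ h₀ : η₀ ∈ T)).2
  have hGT := isCoh_GG Z hL k T
  refine subsingleton_H1_of_two_step k hd (kernel.ι (rG Z L hT)) (rG Z L hT) (cokernel.π f)
    (kernel.condition _) (ShortComplex.exact_of_f_is_kernel _ (kernelIsKernel _))
    (QCoh.isCoh_kernel _ hG hGT) hGT hC (hmin T hT hTne) fun η hη v => ?_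
  by_cases hηT : η ∈ T
  · haveI := QCoh.stalk_subsingleton_of_notMem (QCoh.notMem_support_kernel_of_injective (rG Z L hT)
      (injective_rG Z hL hS hη (hZ η hη) hT hηT))
    rw [Subsingleton.elim v 0, map_zero]
  · have hnot : η ∉ CohB1.support (cokernel f) := by
      intro h
      by_cases hηS : η ∈ S
      · exact hηT ⟨hηS, h⟩
      · exact notMem_support_GG Z hL hS hη hηS (QCoh.support_subset_of_epi (cokernel.π f) h)
    haveI := QCoh.stalk_subsingleton_of_notMem hnot
    exact Subsingleton.elim _ _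

/-- The pairing of sections with `H¹(O_Y)`. -/
def sigmaLin : Coh.HH X (GG Z L S) 0 →ₗ[k]
    (Coh.HH X (ClSub.quotMod (JJ S)) 1 →ₗ[k] Coh.HH X (GG Z L S) 1) where
  toFun z := Cohom.hhMap k (sigma Z hL hS (ProjCoh.H0top _ z)) 1
  map_add' z z' := LinearMap.ext fun w => by
    simp only [map_add, sigma_add, LinearMap.add_apply, CurveMult.hhMap_add']
  map_smul' a z := LinearMap.ext fun w => by
    simp only [RingHom.id_apply, LinearMap.smul_apply]
    rw [ProjCoh.H0top_smul, sigma_smul, Euler.hhMap_comp]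
    rfl

/-- The action of functions on `Y` on first cohomology. -/
def nuLin : Coh.HH X (ClSub.quotMod (JJ S)) 0 →ₗ[k]
    (Coh.HH X (GG Z L S) 1 →ₗ[k] Coh.HH X (GG Z L S) 1) where
  toFun z := Cohom.hhMap k (nuG Z L S (ProjCoh.H0top _ z)) 1
  map_add' z z' := LinearMap.ext fun w => by
    simp only [map_add, nuG_add, LinearMap.add_apply, CurveMult.hhMap_add']
  map_smul' a z := LinearMap.ext fun w => by
    simp only [RingHom.id_apply, LinearMap.smul_apply]
    rw [ProjCoh.H0top_smul, nuG_smul, Euler.hhMap_comp]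
    rfl

include hd hZ hmin in
theorem surjective_sigma {s : Γ(GG Z L S, ⊤)} (hs : s ≠ 0) :
    Function.Surjective (Cohom.hhMap k (sigma Z hL hS s) 1) := by
  obtain ⟨η, hηS, hη⟩ : ∃ η ∈ S, (GG Z L S).presheaf.germ ⊤ η trivial s ≠ 0 := by
    by_contra h
    simp only [not_exists, not_and, not_not] at h
    exact hs (detect_GG Z hL ⊤ s fun η _ hη => h η hη)
  refine surjective_H1_of_min Z hL hS k hd hZ hmin (Snapper.isCoh_quotMod k _) _ hηS
    (surjective_GG_of_ne_zero Z hL (hS hηS) (hZ η (hS hηS)) (subset_closure hηS) _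
      (v := stalkLin (ClSub.toSubscheme (JJ S)) η
        ((Coh.structureModule X).presheaf.germ ⊤ η trivial (FinCov.one X ⊤))) ?_)
  rw [← QCoh.stalkLin_comp, toSubscheme_sigma, stalkLin_homOfSection]
  exact hη

include hL hS hd hZ hmin in
theorem surjective_nu {t : Γ(ClSub.quotMod (JJ S), ⊤)} (ht : t ≠ 0) :
    Function.Surjective (Cohom.hhMap k (nuG Z L S t) 1) := by
  obtain ⟨η, hηS, hη⟩ : ∃ η ∈ S, (ClSub.quotMod (JJ S)).presheaf.germ ⊤ η trivial t ≠ 0 := by
    by_contra h
    simp only [not_exists, not_and, not_not] at h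
    exact ht (detect_quot ⊤ t fun η _ hη => h η hη)
  refine surjective_H1_of_min Z hL hS k hd hZ hmin (isCoh_GG Z hL k S) _ hηS
    (stalkLin_tF_surjective hL (nuK Z S t) fun v => ?_)
  obtain ⟨e⟩ := nonempty_quot_equiv (hS hηS) (subset_closure hηS)
  have hμ : Function.Surjective (stalkLin (mu (JJ S) t) η) :=
    surjective_of_ne_zero (isField_stalk (hS hηS)) e _
      (a := stalkLin (ClSub.toSubscheme (JJ S)) η
        ((Coh.structureModule X).presheaf.germ ⊤ η trivial (FinCov.one X ⊤))) (by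
        rw [← QCoh.stalkLin_comp, toSubscheme_mu, stalkLin_homOfSection]; exact hη)
  have hb := bijective_kerι Z (S := S) (hZ η (hS hηS))
  obtain ⟨w, hw⟩ := hμ (stalkLin (kernel.ι (q0 Z S)) η v)
  obtain ⟨w', rfl⟩ := hb.2 w
  refine ⟨w', hb.1 ?_⟩
  rw [← QCoh.stalkLin_comp, nuK_ι, QCoh.stalkLin_comp]
  exact hw

variable (hne : Nontrivial (Coh.HH X (GG Z L S) 1))

include hd hZ hL hS hmin hne in
/-- `h⁰(I_{Z ∩ Y} ⊗ L) ≤ h¹(O_Y)`. -/
theorem finrank_H0_le : Module.finrank k (Coh.HH X (GG Z L S) 0) ≤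
    Module.finrank k (Coh.HH X (ClSub.quotMod (JJ S)) 1) := by
  obtain ⟨y, hy⟩ := exists_ne (0 : Coh.HH X (GG Z L S) 1)
  haveI : Module.Free k (Coh.HH X (GG Z L S) 1) := Module.Free.of_divisionRing k _
  haveI : Module.Projective k (Coh.HH X (GG Z L S) 1) := Module.Projective.of_free
  obtain ⟨lam, hlam⟩ : ∃ lam : Module.Dual k (Coh.HH X (GG Z L S) 1), lam y ≠ 0 := by
    by_contra h
    push Not at h
    exact hy ((Module.forall_dual_apply_eq_zero_iff k y).1 h)
  haveI := Euler.finiteDimensional_HH k (Snapper.isCoh_quotMod k (JJ S)) 1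
  let P : Coh.HH X (GG Z L S) 0 →ₗ[k] Module.Dual k (Coh.HH X (ClSub.quotMod (JJ S)) 1) :=
    (LinearMap.compRight k lam).comp (sigmaLin Z hL hS k)
  have hinj : Function.Injective P := by
    refine (injective_iff_map_eq_zero P).2 fun z hz => ?_
    by_contra hz0
    obtain ⟨w, hw⟩ := surjective_sigma Z hL hS k hd hZ hmin (s := ProjCoh.H0top _ z)
      (fun h => hz0 ((ProjCoh.H0top _).injective (h.trans (map_zero _).symm))) y
    exact hlam (by rw [← hw]; exact LinearMap.congr_fun hz w)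
  have h := LinearMap.finrank_le_finrank_of_injective hinj
  rwa [Subspace.dual_finrank_eq] at h

include hd hZ hL hS hmin hne in
/-- `h⁰(O_Y) ≤ h¹(I_{Z ∩ Y} ⊗ L)`. -/
theorem finrank_H1_ge : Module.finrank k (Coh.HH X (ClSub.quotMod (JJ S)) 0) ≤
    Module.finrank k (Coh.HH X (GG Z L S) 1) := by
  obtain ⟨y, hy⟩ := exists_ne (0 : Coh.HH X (GG Z L S) 1)
  haveI := Euler.finiteDimensional_HH k (isCoh_GG Z hL k S) 1
  refine LinearMap.finrank_le_finrank_of_injective (f := (nuLin Z k (S := S) (L := L)).flip y) ?_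
  refine (injective_iff_map_eq_zero _).2 fun z hz => ?_
  by_contra hz0
  have hs := surjective_nu Z hL hS k hd hZ hmin (t := ProjCoh.H0top _ z)
    (fun h => hz0 ((ProjCoh.H0top _).injective (h.trans (map_zero _).symm)))
  exact hy ((LinearMap.injective_iff_surjective.2 hs) (hz.trans (map_zero _).symm))

include hd hZ hL hS hmin hne in
/-- The Euler characteristic inequality on a minimal subcurve. -/
theorem euler_le :
    Curv2.euler k X (PP L S) ≤ - Curv2.euler k X (ClSub.quotMod (JJ S)) +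
      Module.finrank k (Coh.HH X (ClSub.quotMod (Z ⊔ JJ S)) 0) := by
  have := Euler.isNoetherian_of_proper (X := X) k
  have hG := isCoh_GG Z hL k S
  have hQ0 := Snapper.isCoh_quotMod k (Z ⊔ JJ S)
  haveI := hG.1
  haveI := (Snapper.isCoh_quotMod k (JJ S)).1
  obtain ⟨hfin, hcl⟩ := finite_of_notMem_genericPoints k hd (QCoh.isClosed_support_of_isCoh hQ0)
    fun η hη => notMem_support_quot_sup Z (hZ η hη)
  have h1 : Curv2.euler k X (PP L S) = Curv2.euler k X (GG Z L S) + Curv2.euler k X (QQ Z L S) :=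
    Euler.euler_additive k (S := twistSeq Z L S) (twistSeq_shortExact Z hL S) hG (isCoh_tF_quotMod hL k (JJ S))
      (isCoh_tF_quotMod hL k (Z ⊔ JJ S))
  have h2 : Curv2.euler k X (QQ Z L S) = Module.finrank k (Coh.HH X (ClSub.quotMod (Z ⊔ JJ S)) 0) := by
    rw [Euler.euler_tF_of_finite_support k (Euler.isFinLocFreeOfRank_one' hL) hQ0 hfin hcl, Nat.cast_one,
      one_mul, Euler.euler_eq_of_finite_support k _ hfin hcl]
  have h3 := Euler.euler_eq_sub k hd (GG Z L S)
  have h4 := Euler.euler_eq_sub k hd (ClSub.quotMod (JJ S))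
  have h5 := finrank_H0_le Z hL hS k hd hZ hmin hne
  have h6 := finrank_H1_ge Z hL hS k hd hZ hmin hne
  omega

end GrothLib.SubCurve16
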