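import Groth.Agent.Lib.SubCurve16.Core

/-!
# Disconnected subcurves
-/

set_option autoImplicit false
set_option backward.isDefEq.respectTransparency false
set_option linter.all false

universe u

open CategoryTheory CategoryTheory.Limits AlgebraicGeometry TopologicalSpace Opposite

noncomputable section

namespace GrothLib.SubCurve16

open GrothLib.QCoh (stalkLin)
open GrothLib.Euler (tF smulMod)

variable {X : Scheme.{u}}

theorem hhMap_zero (k : Type u) [Field k] [X.Over (Spec (CommRingCat.of k))] {M N : X.Modules} {n : ℕ}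
    (x : Coh.HH X M n) : Cohom.hhMap k (0 : M ⟶ N) n x = 0 := by
  have h := CurveMult.hhMap_add' k (0 : M ⟶ N) 0 n x
  rw [add_zero] at h
  exact left_eq_add.1 h

/-- A clopen set has an indicator function. -/
theorem exists_indicator {Y : Scheme.{u}} {A : Set Y} (hA : IsClopen A) :
    ∃ t : Γ(Y, ⊤), (∀ y ∈ A, Y.presheaf.germ ⊤ y trivial t = 1) ∧
      ∀ y ∉ A, Y.presheaf.germ ⊤ y trivial t = 0 := by
  let U₂ : ULift.{u} Bool → Y.Opens := fun b => if b.down then ⟨A, hA.2⟩ else ⟨Aᶜ, hA.1.isOpen_compl⟩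
  let sf : ∀ b, Γ(Y, U₂ b) := fun b => match b with
    | ⟨true⟩ => 1
    | ⟨false⟩ => 0
  have hcompat : TopCat.Presheaf.IsCompatible Y.presheaf U₂ sf := by
    intro a b
    refine TopCat.Presheaf.section_ext (C := CommRingCat.{u}) (X := Y.carrier) Y.sheaf _ _ _ fun z hz => ?_
    refine (Y.presheaf.germ_res_apply _ _ _ _).trans (Eq.trans ?_ (Y.presheaf.germ_res_apply _ _ _ _).symm)
    obtain ⟨_ | _⟩ := a <;> obtain ⟨_ | _⟩ := b
    · rfl
    · exact absurd hz.2 hz.1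
    · exact absurd hz.1 hz.2
    · rfl
  obtain ⟨t, ht, -⟩ := TopCat.Sheaf.existsUnique_gluing' Y.sheaf U₂ ⊤ (fun b => homOfLE le_top)
    (fun y _ => Opens.mem_iSup.2 (by
      by_cases h : y ∈ A
      · exact ⟨⟨true⟩, h⟩
      · exact ⟨⟨false⟩, h⟩)) sf hcompat
  refine ⟨t, fun y hy => ?_, fun y hy => ?_⟩
  · exact ((Y.presheaf.germ_res_apply (homOfLE le_top : U₂ ⟨true⟩ ⟶ ⊤) y hy t).symm.trans
      (congrArg (Y.presheaf.germ (U₂ ⟨true⟩) y hy) (ht ⟨true⟩))).trans (map_one _)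
  · exact ((Y.presheaf.germ_res_apply (homOfLE le_top : U₂ ⟨false⟩ ⟶ ⊤) y hy t).symm.trans
      (congrArg (Y.presheaf.germ (U₂ ⟨false⟩) y hy) (ht ⟨false⟩))).trans (map_zero _)

/-- The unit section of `O/I`. -/
def oneQ (I : X.IdealSheafData) : Γ(ClSub.quotMod I, ⊤) :=
  (ClSub.toSubscheme I).app ⊤ (FinCov.one X ⊤)

theorem mu_oneQ (I : X.IdealSheafData) : mu I (oneQ I) = 𝟙 _ := by
  haveI := Euler.epi_toSubscheme I
  rw [← cancel_epi (ClSub.toSubscheme I), toSubscheme_mu, Category.comp_id]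
  refine FunMor20.homOfSection_unique ?_
  exact (FinCov.homOfSection_one _ ⊤).trans (LefEt7.presheaf_map_self _ _ _)

theorem germ_quot_eq_zero {I : X.IdealSheafData} {s : Γ(ClSub.quotMod I, ⊤)} {y : I.subscheme}
    (h : I.subscheme.presheaf.germ ⊤ y trivial (show Γ(I.subscheme, ⊤) from s) = 0) :
    (ClSub.quotMod I).presheaf.germ ⊤ (I.subschemeι y) trivial s = 0 := by
  refine (QCoh.pushStalkHom_bijective I.subschemeι y (Coh.structureModule I.subscheme)
    (Scheme.Hom.isClosedEmbedding I.subschemeι).isInducing).1 ?_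
  refine Eq.trans ?_ (map_zero (QCoh.pushStalkHom I.subschemeι y (Coh.structureModule I.subscheme)).hom).symm
  refine (QCoh.pushStalkHom_germ I.subschemeι y (Coh.structureModule I.subscheme) ⊤ trivial s).trans ?_
  obtain ⟨W, hyW, i₁, i₂, hW⟩ := TopCat.Presheaf.germ_eq I.subscheme.presheaf y (U := ⊤) (V := ⊤) trivial trivial
    (show Γ(I.subscheme, ⊤) from s) 0 (h.trans (map_zero _).symm)
  rw [map_zero] at hW
  refine ((TopCat.Presheaf.germ_res_apply (Coh.structureModule I.subscheme).presheaf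
    (homOfLE (le_top : W ≤ ⊤)) y hyW (show Γ(Coh.structureModule I.subscheme, ⊤) from s)).symm.trans ?_)
  exact (congrArg ((Coh.structureModule I.subscheme).presheaf.germ W y hyW) hW).trans (map_zero _)

/-- A disconnected subcurve splits its generic points, with a function equal to one on the first part. -/
theorem exists_split {S : Set X} (hne : S.Nonempty) (hc : ¬ ConnectedSpace (JJ S).subscheme) :
    ∃ (T : Set X) (t : Γ(ClSub.quotMod (JJ S), ⊤)), T ⊆ S ∧ T.Nonempty ∧ T ≠ S ∧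
      Disjoint (closure T) (closure (S \ T)) ∧
      (∀ η ∈ T, (ClSub.quotMod (JJ S)).presheaf.germ ⊤ η trivial (t - oneQ (JJ S)) = 0) ∧
      ∀ η ∈ S \ T, (ClSub.quotMod (JJ S)).presheaf.germ ⊤ η trivial t = 0 := by
  let ι := (JJ S).subschemeι
  have hr : Set.range ι = closure S := ((JJ S).range_subschemeι).trans (support_JJ S)
  obtain ⟨η₀, hη₀⟩ := hne
  obtain ⟨y₀, -⟩ := hr.symm ▸ (subset_closure hη₀ : η₀ ∈ closure S)
  haveI : Nonempty (JJ S).subscheme := ⟨y₀⟩
  obtain ⟨A, hA, hA0, hA1⟩ : ∃ A : Set (JJ S).subscheme, IsClopen A ∧ A.Nonempty ∧ Aᶜ.Nonempty := by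
    by_contra h
    simp only [not_exists, not_and] at h
    refine hc (connectedSpace_iff_clopen.2 ⟨inferInstance, fun A hA => ?_⟩)
    rcases A.eq_empty_or_nonempty with h0 | h0
    · exact Or.inl h0
    · exact Or.inr (Set.compl_empty_iff.1 (Set.not_nonempty_iff_eq_empty.1 (h A hA h0)))
  obtain ⟨t, ht1, ht0⟩ := exists_indicator hA
  have hemb := Scheme.Hom.isClosedEmbedding ι
  have hmeet : ∀ B : Set (JJ S).subscheme, IsOpen B → B.Nonempty → ∃ η ∈ S, η ∈ ι '' B := by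
    rintro B hB ⟨y, hy⟩
    obtain ⟨O, hO, rfl⟩ := hemb.isInducing.isOpen_iff.1 hB
    obtain ⟨η, hηO, hηS⟩ := mem_closure_iff.1 (hr ▸ Set.mem_range_self y : ι y ∈ closure S) O hO hy
    obtain ⟨z, rfl⟩ := (hr.symm ▸ subset_closure hηS : η ∈ Set.range ι)
    exact ⟨ι z, hηS, z, hηO, rfl⟩
  let T : Set X := S ∩ ι '' A
  refine ⟨T, (show Γ(ClSub.quotMod (JJ S), ⊤) from t), Set.inter_subset_left, ?_, ?_, ?_, ?_, ?_⟩
  · obtain ⟨η, h1, h2⟩ := hmeet A hA.2 hA0
    exact ⟨η, h1, h2⟩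
  · intro h
    obtain ⟨η, h1, z, hz, rfl⟩ := hmeet Aᶜ hA.1.isOpen_compl hA1
    obtain ⟨z', hz', he⟩ := (h.symm ▸ h1 : ι z ∈ T).2
    exact hz (hemb.injective he ▸ hz')
  · refine Set.disjoint_of_subset (closure_minimal Set.inter_subset_right (hemb.isClosedMap A hA.1))
      (closure_minimal ?_ (hemb.isClosedMap Aᶜ hA.2.isClosed_compl))
      ((Set.disjoint_image_iff hemb.injective).2 disjoint_compl_right)
    rintro η ⟨hηS, hηT⟩
    obtain ⟨z, rfl⟩ := (hr.symm ▸ subset_closure hηS : η ∈ Set.range ι)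
    exact ⟨z, fun hz => hηT ⟨hηS, z, hz, rfl⟩, rfl⟩
  · rintro η ⟨-, z, hz, rfl⟩
    refine germ_quot_eq_zero ?_
    show (JJ S).subscheme.presheaf.germ ⊤ z trivial (t - (JJ S).subschemeι.appTop (1 : Γ(X, ⊤))) = 0
    rw [map_one, map_sub, ht1 z hz, map_one, sub_self]
  · rintro η ⟨hηS, hηT⟩
    obtain ⟨z, rfl⟩ := (hr.symm ▸ subset_closure hηS : η ∈ Set.range ι)
    exact germ_quot_eq_zero (ht0 z fun hz => hηT ⟨hηS, z, hz, rfl⟩)

variable (Z : X.IdealSheafData) {L : X.Modules} (hL : PicF.IsInvertible L) [IsReduced X] [NoetherianSpace X]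
  {S : Set X} (hS : S ⊆ genericPoints (X : Type u))
  (k : Type u) [Field k] [X.Over (Spec (CommRingCat.of k))] [IsProper (X ↘ Spec (CommRingCat.of k))]
  (hd : topologicalKrullDim X ≤ 1) (hZ : ∀ η ∈ genericPoints (X : Type u), η ∉ (Z.support : Set X))
  (hmin : ∀ T ⊆ S, T ≠ S → Subsingleton (Coh.HH X (GG Z L T) 1))
  (hne : Nontrivial (Coh.HH X (GG Z L S) 1))

include hL hS hd hZ hmin hne k in
/-- Minimal subcurves are connected. -/
theorem connectedSpace_of_min (hne' : S.Nonempty) : ConnectedSpace (JJ S).subscheme := by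
  by_contra hc
  obtain ⟨T, t, hTS, hT0, hT1, -, ht1, ht0⟩ := exists_split hne' hc
  let u : Γ(ClSub.quotMod (JJ S), ⊤) := t - oneQ (JJ S)
  obtain ⟨η₁, hη₁⟩ := hT0
  obtain ⟨η₂, hη₂⟩ : (S \ T).Nonempty := by
    by_contra h
    exact hT1 (hTS.antisymm (Set.diff_eq_empty.1 (Set.not_nonempty_iff_eq_empty.1 h)))
  have hone : ∀ η ∈ S, (ClSub.quotMod (JJ S)).presheaf.germ ⊤ η trivial (oneQ (JJ S)) ≠ 0 := by
    intro η hη h
    have h1 := stalkLin_mu_eq_zero h
    haveI := nontrivial_stalk_quotMod (I := JJ S) ((support_JJ S).symm ▸ subset_closure hη : η ∈ ((JJ S).support : Set X))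
    obtain ⟨v, hv⟩ := exists_ne (0 : (ClSub.quotMod (JJ S)).presheaf.stalk η)
    refine hv ((QCoh.stalkLin_id (ClSub.quotMod (JJ S)) η v).symm.trans ?_)
    rw [← mu_oneQ]
    exact h1 v
  have htne : t ≠ 0 := fun h => hone η₁ (hTS hη₁) (by
    have := ht1 η₁ hη₁
    rwa [h, zero_sub, map_neg, neg_eq_zero] at this)
  have hune : u ≠ 0 := fun h => hone η₂ hη₂.1 (by
    have := ht0 η₂ hη₂
    rwa [sub_eq_zero.1 h] at this)
  have hμ : mu (JJ S) t ≫ mu (JJ S) u = 0 := by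
    refine detect_quot.hom_eq_zero _ fun η hη v => ?_
    rw [QCoh.stalkLin_comp]
    by_cases h : η ∈ T
    · exact stalkLin_mu_eq_zero (ht1 η h) _
    · rw [stalkLin_mu_eq_zero (ht0 η ⟨hη, h⟩) v, map_zero]
  have hν : nuG Z L S t ≫ nuG Z L S u = 0 := by
    have : nuK Z S t ≫ nuK Z S u = 0 := by
      rw [← cancel_mono (kernel.ι (q0 Z S)), Category.assoc, nuK_ι, ← Category.assoc, nuK_ι, Category.assoc, hμ,
        comp_zero, zero_comp]
    rw [← Functor.map_comp, this, Functor.map_zero]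
  obtain ⟨y, hy⟩ := exists_ne (0 : Coh.HH X (GG Z L S) 1)
  obtain ⟨w, rfl⟩ := surjective_nu Z hL hS k hd hZ hmin hune y
  obtain ⟨w', rfl⟩ := surjective_nu Z hL hS k hd hZ hmin htne w
  refine hy ?_
  rw [← Euler.hhMap_comp, hν]
  exact hhMap_zero k w'

end GrothLib.SubCurve16
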