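import Groth.Agent.Lib.SubCurve16.Core
import Groth.Agent.Lib.Euler.SectionKill

/-!
# The component-by-component bound on sections
-/

set_option autoImplicit false
set_option backward.isDefEq.respectTransparency false
set_option linter.all false
set_option maxHeartbeats 1000000

universe u

open CategoryTheory CategoryTheory.Limits AlgebraicGeometry TopologicalSpace Opposite

noncomputable section

namespace GrothLib.SubCurve16

open GrothLib.QCoh (stalkLin)
open GrothLib.Euler (tF smulMod)

section linalg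

variable {k : Type*} [Field k] {A V Q : Type*} [AddCommGroup A] [Module k A] [AddCommGroup V] [Module k V]
  [AddCommGroup Q] [Module k Q] (B : A →ₗ[k] V →ₗ[k] Q)

/-- Vectors killed by the pairing with `F`. -/
def annB (F : Submodule k A) : Submodule k V := ⨅ z ∈ F, LinearMap.ker (B z)

theorem mem_annB {F : Submodule k A} {w : V} : w ∈ annB B F ↔ ∀ z ∈ F, B z w = 0 := by
  simp [annB, Submodule.mem_iInf]

theorem annB_anti {F F' : Submodule k A} (h : F' ≤ F) : annB B F ≤ annB B F' :=
  fun w hw => (mem_annB B).2 fun z hz => (mem_annB B).1 hw z (h hz)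

/-- One step of the filtration. -/
theorem finrank_step [FiniteDimensional k A] [FiniteDimensional k V] {F F' : Submodule k A} (h : F' ≤ F)
    (lam : Module.Dual k Q) (hl : ∀ z ∈ F, z ∉ F' → ∃ w ∈ annB B F', lam (B z w) ≠ 0) :
    Module.finrank k F + Module.finrank k (annB B F) ≤ Module.finrank k F' + Module.finrank k (annB B F') := by
  let W' := annB B F'
  let W : Submodule k W' := (annB B F).comap W'.subtype
  have hW : Module.finrank k W = Module.finrank k (annB B F) :=
    (Submodule.comapSubtypeEquivOfLe (annB_anti B h)).finrank_eq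
  let Θ : F →ₗ[k] Module.Dual k W' :=
    ((LinearMap.compRight k lam).comp ((LinearMap.lcomp k Q W'.subtype).comp B)).comp F.subtype
  have hker : LinearMap.ker Θ ≤ F'.comap F.subtype := by
    intro z hz
    by_contra hz'
    obtain ⟨w, hw, hne⟩ := hl z z.2 hz'
    exact hne (LinearMap.congr_fun (LinearMap.mem_ker.1 hz) ⟨w, hw⟩)
  have hrange : LinearMap.range Θ ≤ W.dualAnnihilator := by
    rintro _ ⟨z, rfl⟩
    rw [Submodule.mem_dualAnnihilator]
    intro w hw
    show lam (B z.1 w.1) = 0
    have hw0 : w.1 ∈ annB B F := hw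
    rw [(mem_annB B).1 hw0 z.1 z.2, map_zero]
  have h1 := LinearMap.finrank_range_add_finrank_ker Θ
  have h2 := Submodule.finrank_mono hker
  have h3 := Submodule.finrank_mono hrange
  have h4 := Subspace.finrank_add_finrank_dualAnnihilator_eq W
  have h6 : Module.finrank k W' = Module.finrank k (annB B F') := rfl
  have h5 : Module.finrank k (F'.comap F.subtype) = Module.finrank k F' :=
    (Submodule.comapSubtypeEquivOfLe h).finrank_eq
  omega

end linalg

variable {X : Scheme.{u}}

variable (Z : X.IdealSheafData) {L : X.Modules} (hL : PicF.IsInvertible L) [IsReduced X] [NoetherianSpace X]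
  {S : Set X} (hS : S ⊆ genericPoints (X : Type u))
  (k : Type u) [Field k] [X.Over (Spec (CommRingCat.of k))] [IsProper (X ↘ Spec (CommRingCat.of k))]
  (hd : topologicalKrullDim X ≤ 1) (hZ : ∀ η ∈ genericPoints (X : Type u), η ∉ (Z.support : Set X))

/-- Sections vanishing at the points of `Σ'`. -/
def vanishAt (M : X.Modules) (T : Set X) : Submodule k (Coh.HH X M 0) where
  carrier := {z | ∀ η ∈ T, M.presheaf.germ ⊤ η trivial (ProjCoh.H0top M z) = 0}
  zero_mem' := fun η _ => by rw [map_zero, map_zero]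
  add_mem' := fun {a b} ha hb η hη => by rw [map_add, map_add, ha η hη, hb η hη, add_zero]
  smul_mem' := fun c a ha η hη => by rw [Euler.germ_H0top_smul, ha η hη, smul_zero]

theorem quotMap_injective_at [IsReduced X] {T : Set X} (h : T ⊆ S) {η : X}
    (hη : η ∈ genericPoints (X : Type u)) (hηT : η ∈ T) :
    Function.Injective (stalkLin (Lef.quotMap (JJ_anti h)) η) := by
  obtain ⟨e⟩ := nonempty_quot_equiv hη (subset_closure (h hηT))
  obtain ⟨e'⟩ := nonempty_quot_equiv hη (subset_closure hηT)
  haveI : Nontrivial ((ClSub.quotMod (JJ T)).presheaf.stalk η) := e'.toEquiv.nontrivial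
  exact injective_of_surjective (isField_stalk hη) e _ (QCoh.stalkLin_surjective _ η)

theorem stalkLin_sigma_eq_zero {s : Γ(GG Z L S, ⊤)} {η : X}
    (h : (GG Z L S).presheaf.germ ⊤ η trivial s = 0) (v : (ClSub.quotMod (JJ S)).presheaf.stalk η) :
    stalkLin (sigma Z hL hS s) η v = 0 := by
  haveI := Euler.epi_toSubscheme (JJ S)
  obtain ⟨w, rfl⟩ := QCoh.stalkLin_surjective (ClSub.toSubscheme (JJ S)) η v
  rw [← QCoh.stalkLin_comp, toSubscheme_sigma, stalkLin_homOfSection_eq_zero h]

include hd hZ in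
/-- A section nonzero on the component of `η` reaches every class killed off that component. -/
theorem exists_witness {T₀ : Set X} (hT₀ : T₀ ⊆ S) {η : X} (hηS : η ∈ S) (hη₀ : η ∉ T₀)
    {z : Coh.HH X (GG Z L S) 0} (hz : z ∈ vanishAt k (GG Z L S) T₀)
    (hz' : z ∉ vanishAt k (GG Z L S) (insert η T₀))
    {v : Coh.HH X (GG Z L S) 1}
    (hv : Cohom.hhMap k (rG Z L (Set.sdiff_subset : S \ {η} ⊆ S)) 1 v = 0) :
    ∃ w ∈ annB (sigmaLin Z hL hS k) (vanishAt k (GG Z L S) (insert η T₀)), sigmaLin Z hL hS k z w = v := by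
  have := Euler.isNoetherian_of_proper (X := X) k
  let R : Set X := S \ insert η T₀
  have hR : R ⊆ S := Set.sdiff_subset
  have hT : S \ {η} ⊆ S := Set.sdiff_subset
  let s := ProjCoh.H0top (GG Z L S) z
  let A := kernel (Lef.quotMap (JJ_anti hR))
  let a : A ⟶ ClSub.quotMod (JJ S) := kernel.ι _
  have hηg := hS hηS
  have hsη : (GG Z L S).presheaf.germ ⊤ η trivial s ≠ 0 := by
    intro h
    refine hz' fun η' hη' => ?_
    rcases Set.mem_insert_iff.1 hη' with rfl | h'
    · exact h
    · exact hz η' h'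
  have hA0 : ∀ η' ∈ R, η' ∉ CohB1.support A := fun η' hη' =>
    QCoh.notMem_support_kernel_of_injective _ (quotMap_injective_at hR (hS (hR hη')) hη')
  have hkill : ∀ z' ∈ vanishAt k (GG Z L S) (insert η T₀),
      a ≫ sigma Z hL hS (ProjCoh.H0top _ z') = 0 := fun z' hz'' => by
    refine (detect_GG Z hL).hom_eq_zero _ fun η' hη' u => ?_
    rw [QCoh.stalkLin_comp]
    by_cases h : η' ∈ insert η T₀
    · exact stalkLin_sigma_eq_zero Z hL hS (hz'' η' h) _
    · haveI := QCoh.stalk_subsingleton_of_notMem (hA0 η' ⟨hη', h⟩)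
      rw [Subsingleton.elim u 0, map_zero, map_zero]
  have hzero : (a ≫ sigma Z hL hS s) ≫ rG Z L hT = 0 := by
    refine (detect_GG Z hL).hom_eq_zero _ fun η' hη' u => ?_
    rw [Category.assoc, QCoh.stalkLin_comp]
    by_cases h : η' ∈ T₀
    · rw [QCoh.stalkLin_comp, stalkLin_sigma_eq_zero Z hL hS (hz η' h), map_zero]
    · haveI := QCoh.stalk_subsingleton_of_notMem (hA0 η' ⟨hη'.1, fun h' =>
        (Set.mem_insert_iff.1 h').elim hη'.2 h⟩)
      rw [Subsingleton.elim u 0, map_zero, map_zero]
  let g : A ⟶ kernel (rG Z L hT) := kernel.lift _ (a ≫ sigma Z hL hS s) hzero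
  have hg : g ≫ kernel.ι (rG Z L hT) = a ≫ sigma Z hL hS s := kernel.lift_ι _ _ _
  have hG := isCoh_GG Z hL k S
  have hGT := isCoh_GG Z hL k (S \ {η})
  have hsurj : Function.Surjective (Cohom.hhMap k g 1) := by
    refine surjective_H1_of_generic k hd g
      (QCoh.isCoh_kernel _ (Snapper.isCoh_quotMod k _) (Snapper.isCoh_quotMod k _))
      (QCoh.isCoh_kernel _ hG hGT) fun η' hη' hsupp => ?_
    by_cases hη'S : η' ∈ S
    swap
    · exact absurd (QCoh.support_subset_of_mono (kernel.ι (rG Z L hT)) hsupp)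
        (notMem_support_GG Z hL hS hη' hη'S)
    by_cases he : η' = η
    swap
    · exact absurd hsupp (QCoh.notMem_support_kernel_of_injective _
        (injective_rG Z hL hS hη' (hZ η' hη') hT ⟨hη'S, he⟩))
    subst he
    intro u
    have hσ : Function.Surjective (stalkLin (sigma Z hL hS s) η') := by
      refine surjective_GG_of_ne_zero Z hL hη' (hZ η' hη') (subset_closure hη'S) _
        (v := stalkLin (ClSub.toSubscheme (JJ S)) η'
          ((Coh.structureModule X).presheaf.germ ⊤ η' trivial (FinCov.one X ⊤))) ?_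
      rw [← QCoh.stalkLin_comp, toSubscheme_sigma, stalkLin_homOfSection]
      exact hsη
    obtain ⟨w, hw⟩ := hσ (stalkLin (kernel.ι (rG Z L hT)) η' u)
    have hex := (OX.exact_iff (ShortComplex.mk a (Lef.quotMap (JJ_anti hR)) (kernel.condition _))).1
      (ShortComplex.exact_of_f_is_kernel _ (kernelIsKernel _)) η'
    rw [ShortComplex.moduleCat_exact_iff] at hex
    obtain ⟨w', hw'⟩ := hex w (@Subsingleton.elim _ (QCoh.stalk_subsingleton_of_notMem
      (notMem_support_quot (hR.trans hS) hη' fun h => h.2 (Set.mem_insert _ _))) _ _)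
    refine ⟨w', QCoh.stalkLin_injective (kernel.ι (rG Z L hT)) η' ?_⟩
    rw [← QCoh.stalkLin_comp, hg, QCoh.stalkLin_comp, ← hw]
    exact congrArg _ hw'
  obtain ⟨n, hn⟩ := (Cohom.exact₂ (A := k)
    (show (ShortComplex.mk (kernel.ι (rG Z L hT)) (rG Z L hT) (kernel.condition _)).ShortExact from
      { exact := ShortComplex.exact_of_f_is_kernel _ (kernelIsKernel _) }) 1 v).1 hv
  obtain ⟨b, hb⟩ := hsurj n
  refine ⟨Cohom.hhMap k a 1 b, (mem_annB _).2 fun z' hz'' => ?_, ?_⟩
  · show Cohom.hhMap k (sigma Z hL hS _) 1 (Cohom.hhMap k a 1 b) = 0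
    rw [← Euler.hhMap_comp, hkill z' hz'']
    have h := CurveMult.hhMap_add' k (0 : A ⟶ GG Z L S) 0 1 b
    rw [add_zero] at h
    exact left_eq_add.1 h
  · show Cohom.hhMap k (sigma Z hL hS s) 1 (Cohom.hhMap k a 1 b) = v
    rw [← Euler.hhMap_comp, ← hg, Euler.hhMap_comp, hb]
    exact hn

include hL hS hd hZ in
/-- If `H¹` restricts non-injectively to the complement of every component, then
`h⁰(I_{Z ∩ Y} ⊗ L) ≤ h¹(O_Y)`. -/
theorem finrank_H0_le_of_ker
    (hker : ∀ η ∈ S, ∃ v : Coh.HH X (GG Z L S) 1, v ≠ 0 ∧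
      Cohom.hhMap k (rG Z L (Set.sdiff_subset : S \ {η} ⊆ S)) 1 v = 0) :
    Module.finrank k (Coh.HH X (GG Z L S) 0) ≤ Module.finrank k (Coh.HH X (ClSub.quotMod (JJ S)) 1) := by
  classical
  have := Euler.isNoetherian_of_proper (X := X) k
  haveI := Euler.finiteDimensional_HH k (isCoh_GG Z hL k S) 0
  haveI := Euler.finiteDimensional_HH k (Snapper.isCoh_quotMod k (JJ S)) 1
  haveI : Module.Free k (Coh.HH X (GG Z L S) 1) := Module.Free.of_divisionRing k _
  haveI : Module.Projective k (Coh.HH X (GG Z L S) 1) := Module.Projective.of_free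
  let B := sigmaLin Z hL hS k
  let F := fun T => vanishAt k (GG Z L S) T
  have hfin : S.Finite := (genericPoints.finite NoetherianSpace.finite_irreducibleComponents).subset hS
  have key : Module.finrank k (Coh.HH X (GG Z L S) 0) ≤ Module.finrank k (F S) + Module.finrank k (annB B (F S)) := by
    refine Set.Finite.induction_on_subset (motive := fun T _ => Module.finrank k (Coh.HH X (GG Z L S) 0) ≤
      Module.finrank k (F T) + Module.finrank k (annB B (F T))) S hfin ?_ ?_
    · have : F ∅ = ⊤ := eq_top_iff.2 fun z _ η hη => absurd hη (Set.notMem_empty η)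
      rw [this, finrank_top]
      omega
    · intro η T hηS hTS hηT ih
      refine ih.trans ?_
      obtain ⟨v, hv0, hv⟩ := hker η hηS
      obtain ⟨lam, hlam⟩ : ∃ lam : Module.Dual k (Coh.HH X (GG Z L S) 1), lam v ≠ 0 := by
        by_contra h
        push Not at h
        exact hv0 ((Module.forall_dual_apply_eq_zero_iff k v).1 h)
      refine finrank_step B (F := F T) (F' := F (insert η T)) (fun z hz η' hη' => hz η' (Set.mem_insert_of_mem _ hη')) lam
        fun z hz hz' => ?_
      obtain ⟨w, hw, he⟩ := exists_witness Z hL hS k hd hZ hTS hηS hηT hz hz' hv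
      exact ⟨w, hw, by rw [he]; exact hlam⟩
  have h0 : F S = ⊥ := eq_bot_iff.2 fun z hz => (Submodule.mem_bot k).2 ((ProjCoh.H0top _).injective
    ((detect_GG Z hL ⊤ (ProjCoh.H0top _ z) fun η _ hη => hz η hη).trans (map_zero _).symm))
  have h1 := Submodule.finrank_le (annB B (F S))
  rw [h0, finrank_bot] at key
  rw [h0] at h1
  omega

end GrothLib.SubCurve16
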